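import Mathlib
import Cfsg.Agent.Lib.Helper6.SylowSub

set_option autoImplicit false

namespace Cfsg.Agent.Lib.Helper6

/-- For `N` normal, `|P ⊔ N : P| = |N : P ⊓ N|`. -/
theorem relIndex_sup_of_normal {G : Type*} [Group G] [Finite G] (P N : Subgroup G) [N.Normal] :
    P.relIndex (P ⊔ N) = P.relIndex N := by
  have h1 : Nat.card P * P.relIndex (P ⊔ N) = Nat.card (P ⊔ N : Subgroup G) :=
    card_mul_relIndex_of_le le_sup_left
  have h2 : Nat.card N * N.relIndex (P ⊔ N) = Nat.card (P ⊔ N : Subgroup G) :=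
    card_mul_relIndex_of_le le_sup_right
  have h3 : N.relIndex (P ⊔ N) = N.relIndex P := Subgroup.relIndex_sup_right P N
  have h4 : Nat.card (N ⊓ P : Subgroup G) * N.relIndex P = Nat.card P := by
    have := card_mul_relIndex_of_le (inf_le_right : N ⊓ P ≤ P)
    rw [Subgroup.inf_relIndex_right] at this
    exact this
  have h5 : Nat.card (N ⊓ P : Subgroup G) * P.relIndex N = Nat.card N := by
    have := card_mul_relIndex_of_le (inf_le_left : N ⊓ P ≤ N)
    rw [Subgroup.inf_relIndex_left] at this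
    exact this
  have hpos : 0 < Nat.card (N ⊓ P : Subgroup G) * N.relIndex P := by
    rw [h4]
    exact Nat.card_pos
  rw [h3] at h2
  have h6 : (Nat.card (N ⊓ P : Subgroup G) * N.relIndex P) * P.relIndex (P ⊔ N) =
      (Nat.card (N ⊓ P : Subgroup G) * N.relIndex P) * P.relIndex N := by
    calc (Nat.card (N ⊓ P : Subgroup G) * N.relIndex P) * P.relIndex (P ⊔ N)
        = Nat.card P * P.relIndex (P ⊔ N) := by rw [h4]
      _ = Nat.card N * N.relIndex P := by rw [h1, h2]
      _ = (Nat.card (N ⊓ P : Subgroup G) * P.relIndex N) * N.relIndex P := by rw [h5]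
      _ = (Nat.card (N ⊓ P : Subgroup G) * N.relIndex P) * P.relIndex N := by ring
  exact Nat.eq_of_mul_eq_mul_left hpos h6

/-- If `K ≤ H` is normalized by `H` then `|K : K ∩ S|` divides `|H : H ∩ S|`. -/
theorem relIndex_dvd_of_normal_in {G : Type*} [Group G] [Finite G] (S K H : Subgroup G)
    (hKH : K ≤ H) (hn : H ≤ Subgroup.normalizer (K : Set G)) :
    S.relIndex K ∣ S.relIndex H := by
  have : (K.subgroupOf H).Normal := (Subgroup.normal_subgroupOf_iff_le_normalizer hKH).mpr hn
  rw [← Subgroup.relIndex_subgroupOf hKH]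
  show (S.subgroupOf H).relIndex (K.subgroupOf H) ∣ (S.subgroupOf H).index
  rw [← relIndex_sup_of_normal]
  exact Subgroup.relIndex_dvd_index_of_le le_sup_left

/-- If `H` normalizes `N` then `|N ⊔ H : H|` divides `|N|`. -/
theorem relIndex_sup_dvd_card {G : Type*} [Group G] [Finite G] (N H : Subgroup G)
    (hn : H ≤ Subgroup.normalizer (N : Set G)) :
    H.relIndex (N ⊔ H) ∣ Nat.card N := by
  have hNX : N ≤ N ⊔ H := le_sup_left
  have hHX : H ≤ N ⊔ H := le_sup_right
  have : (N.subgroupOf (N ⊔ H)).Normal :=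
    (Subgroup.normal_subgroupOf_iff_le_normalizer hNX).mpr (sup_le Subgroup.le_normalizer hn)
  have h1 := relIndex_sup_normal_dvd (H.subgroupOf (N ⊔ H)) (N.subgroupOf (N ⊔ H))
  rw [← Subgroup.subgroupOf_sup hHX hNX, Subgroup.relIndex_subgroupOf (sup_le hHX hNX),
    Nat.card_congr (Subgroup.subgroupOfEquivOfLe hNX).toEquiv, sup_comm] at h1
  exact h1

/-- If `H` normalizes `N` then `|N ⊔ H|` divides `|N| * |H|`. -/
theorem card_sup_dvd_mul {G : Type*} [Group G] [Finite G] (N H : Subgroup G)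
    (hn : H ≤ Subgroup.normalizer (N : Set G)) :
    Nat.card (N ⊔ H : Subgroup G) ∣ Nat.card N * Nat.card H := by
  have h1 := card_mul_relIndex_of_le (le_sup_right : H ≤ N ⊔ H)
  rw [← h1, mul_comm]
  exact Nat.mul_dvd_mul_right (relIndex_sup_dvd_card N H hn) _

end Cfsg.Agent.Lib.Helper6
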