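import Mathlib
import Cfsg.Agent.Lib.Lead.UniqueSub
import Cfsg.Agent.Lib.Helper1.ThompsonJ
import Cfsg.Agent.Lib.Helper1.Basic

set_option autoImplicit false

namespace Cfsg.Agent.Lib.Helper6

/-- Two commuting elements of prime order `p`, neither a power of the other, generate an
abelian subgroup of order `p ^ 2` and exponent `p`. -/
theorem exists_elemAb_of_commute {G : Type*} [Group G] [Finite G] (p : ℕ) [Fact p.Prime]
    (h z : G) (hh : orderOf h = p) (hz : orderOf z = p) (hc : h * z = z * h)
    (hne : h ∉ Subgroup.zpowers z) :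
    ∃ E : Subgroup G, (∀ a ∈ E, ∀ b ∈ E, a * b = b * a) ∧ Nat.card E = p ^ 2 ∧
      (∀ e ∈ E, e ^ p = 1) ∧ h ∈ E ∧ z ∈ E := by
  have hp : p.Prime := Fact.out
  set E := Subgroup.zpowers h ⊔ Subgroup.zpowers z with hE
  have hhE : h ∈ E := Subgroup.mem_sup_left (Subgroup.mem_zpowers h)
  have hzE : z ∈ E := Subgroup.mem_sup_right (Subgroup.mem_zpowers z)
  -- E centralizes h and z
  have h1 : E ≤ Subgroup.centralizer ({h, z} : Set G) := by
    apply sup_le
    · rw [Subgroup.zpowers_le, Subgroup.mem_centralizer_iff]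
      intro x hx
      rcases hx with rfl | rfl
      · rfl
      · exact hc.symm
    · rw [Subgroup.zpowers_le, Subgroup.mem_centralizer_iff]
      intro x hx
      rcases hx with rfl | rfl
      · exact hc
      · rfl
  have h2 : E ≤ Subgroup.centralizer (E : Set G) := by
    apply sup_le
    · rw [Subgroup.zpowers_le, Subgroup.mem_centralizer_iff]
      intro e he
      have := Subgroup.mem_centralizer_iff.mp (h1 he) h (by simp)
      exact this.symm
    · rw [Subgroup.zpowers_le, Subgroup.mem_centralizer_iff]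
      intro e he
      have := Subgroup.mem_centralizer_iff.mp (h1 he) z (by simp)
      exact this.symm
  have hcomm : ∀ a ∈ E, ∀ b ∈ E, a * b = b * a := by
    intro a ha b hb
    exact (Subgroup.mem_centralizer_iff.mp (h2 hb) a ha)
  refine ⟨E, hcomm, ?_, ?_, hhE, hzE⟩
  · -- cardinality
    have hnorm : Subgroup.zpowers h ≤ Subgroup.normalizer ((Subgroup.zpowers z : Subgroup G) : Set G) := by
      rw [Subgroup.zpowers_le]
      apply Cfsg.Agent.Lib.Helper1.mem_normalizer_of_finite
      intro n hn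
      obtain ⟨k, rfl⟩ := Subgroup.mem_zpowers_iff.mp hn
      have h3 : h * z ^ k = z ^ k * h := (Commute.zpow_right (show Commute h z from hc) k).eq
      rw [h3, mul_inv_cancel_right]
      exact Subgroup.zpow_mem_zpowers z k
    have h3 := Cfsg.Agent.Lib.Helper1.card_sup_mul_card_inf (Subgroup.zpowers h)
      (Subgroup.zpowers z) hnorm
    rw [Nat.card_zpowers, Nat.card_zpowers, hh, hz] at h3
    have h4 : Nat.card ↥(Subgroup.zpowers h ⊓ Subgroup.zpowers z) = 1 := by
      have h5 : Nat.card ↥(Subgroup.zpowers h ⊓ Subgroup.zpowers z) ∣ p := by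
        have := Subgroup.card_dvd_of_le (inf_le_left : Subgroup.zpowers h ⊓ Subgroup.zpowers z ≤
          Subgroup.zpowers h)
        rwa [Nat.card_zpowers, hh] at this
      rcases (Nat.dvd_prime hp).mp h5 with h6 | h6
      · exact h6
      · exfalso
        apply hne
        have h7 : Subgroup.zpowers h ⊓ Subgroup.zpowers z = Subgroup.zpowers h := by
          apply Subgroup.eq_of_le_of_card_ge inf_le_left
          rw [h6, Nat.card_zpowers, hh]
        have h8 : h ∈ Subgroup.zpowers h ⊓ Subgroup.zpowers z := by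
          rw [h7]
          exact Subgroup.mem_zpowers h
        exact h8.2
    rw [h4, mul_one] at h3
    rw [h3, pow_two]
  · intro e he
    have : ∀ x ∈ Subgroup.closure ((Subgroup.zpowers h : Set G) ∪ (Subgroup.zpowers z : Set G)),
        x ^ p = 1 := by
      intro x hx
      induction hx using Subgroup.closure_induction with
      | mem x hx =>
        rcases hx with hx | hx
        · obtain ⟨k, rfl⟩ := Subgroup.mem_zpowers_iff.mp hx
          rw [← zpow_natCast, ← zpow_mul, mul_comm, zpow_mul, zpow_natCast, ← hh,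
            pow_orderOf_eq_one, one_zpow]
        · obtain ⟨k, rfl⟩ := Subgroup.mem_zpowers_iff.mp hx
          rw [← zpow_natCast, ← zpow_mul, mul_comm, zpow_mul, zpow_natCast, ← hz,
            pow_orderOf_eq_one, one_zpow]
      | one => exact one_pow p
      | mul x y hx hy ihx ihy =>
        have hxE : x ∈ E := by
          rw [hE, Subgroup.sup_eq_closure]
          exact hx
        have hyE : y ∈ E := by
          rw [hE, Subgroup.sup_eq_closure]
          exact hy
        rw [(show Commute x y from hcomm x hxE y hyE).mul_pow, ihx, ihy, one_mul]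
      | inv x hx ihx => rw [inv_pow, ihx, inv_one]
    rw [hE, Subgroup.sup_eq_closure] at he
    exact this e he

/-- In a finite group where abelian subgroups of equal order are conjugate, a Sylow `p`-subgroup
has exponent `p`, or is cyclic, or is generalized quaternion. -/
theorem sylow_of_abelian_conj {G : Type*} [Group G] [Finite G]
    (hB : ∀ A B : Subgroup G, IsMulCommutative ↥A → IsMulCommutative ↥B →
      Nat.card ↥A = Nat.card ↥B → ∃ g : G, B = A.map (MulAut.conj g).toMonoidHom)
    (p : ℕ) [Fact p.Prime] (P : Sylow p G) :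
    (∀ x ∈ (P : Subgroup G), x ^ p = 1) ∨ IsCyclic ↥(P : Subgroup G) ∨
      (p = 2 ∧ ∃ n : ℕ, Nonempty (↥(P : Subgroup G) ≃* QuaternionGroup (2 ^ n))) := by
  classical
  have hp : p.Prime := Fact.out
  by_cases hexp : ∀ x ∈ (P : Subgroup G), x ^ p = 1
  · left; exact hexp
  right
  push Not at hexp
  obtain ⟨x, hxP, hxp⟩ := hexp
  -- an element of order p^2
  have hpow : ∀ u : ↥(P : Subgroup G), ∃ j : ℕ, orderOf u = p ^ j := by
    intro u
    obtain ⟨k, hk⟩ := P.2 u
    have h1 : orderOf u ∣ p ^ k := orderOf_dvd_of_pow_eq_one hk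
    obtain ⟨j, -, hj⟩ := (Nat.dvd_prime_pow hp).mp h1
    exact ⟨j, hj⟩
  obtain ⟨j, hj⟩ := hpow ⟨x, hxP⟩
  have hj' : orderOf x = p ^ j := by
    rw [← hj]
    exact Subgroup.orderOf_coe (⟨x, hxP⟩ : ↥(P : Subgroup G))
  have hj2 : 2 ≤ j := by
    by_contra hlt
    apply hxp
    have h1 : orderOf x ∣ p := by
      rw [hj']
      have : j ≤ 1 := by omega
      calc p ^ j ∣ p ^ 1 := pow_dvd_pow p this
        _ = p := pow_one p
    exact orderOf_dvd_iff_pow_eq_one.mp h1
  set y := x ^ p ^ (j - 2) with hy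
  have hyord : orderOf y = p ^ 2 := by
    rw [hy, orderOf_pow_of_dvd (pow_pos hp.pos _).ne' (by rw [hj']; exact pow_dvd_pow p (by omega)),
      hj', Nat.pow_div (by omega) hp.pos]
    congr 1
    omega
  have hyP : y ∈ (P : Subgroup G) := Subgroup.pow_mem _ hxP _
  have hy1 : y ≠ 1 := by
    intro h
    rw [h, orderOf_one] at hyord
    have := Nat.one_lt_pow (n := 2) (by norm_num) hp.one_lt
    omega
  -- a central element of order p
  haveI : Nontrivial ↥(P : Subgroup G) :=
    ⟨⟨⟨y, hyP⟩, 1, fun h => hy1 (congrArg Subtype.val h)⟩⟩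
  haveI := P.2.center_nontrivial
  obtain ⟨z, hz⟩ := exists_ne (1 : Subgroup.center ↥(P : Subgroup G))
  obtain ⟨i, hi⟩ := hpow (z : ↥(P : Subgroup G))
  have hi1 : 1 ≤ i := by
    by_contra hlt
    have : i = 0 := by omega
    rw [this, pow_zero, orderOf_eq_one_iff] at hi
    exact hz (Subtype.ext hi)
  set z₀ : ↥(P : Subgroup G) := (z : ↥(P : Subgroup G)) ^ p ^ (i - 1) with hz₀
  have hz₀ord : orderOf z₀ = p := by
    rw [hz₀, orderOf_pow_of_dvd (pow_pos hp.pos _).ne' (by rw [hi]; exact pow_dvd_pow p (by omega)),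
      hi, Nat.pow_div (by omega) hp.pos]
    have : i - (i - 1) = 1 := by omega
    rw [this, pow_one]
  have hz₀c : ∀ u : ↥(P : Subgroup G), u * z₀ = z₀ * u := by
    intro u
    have h1 : z₀ ∈ Subgroup.center ↥(P : Subgroup G) := Subgroup.pow_mem _ z.2 _
    exact (Subgroup.mem_center_iff.mp h1 u)
  have hone : ∀ H : Subgroup ↥(P : Subgroup G), Nat.card H = p → H = Subgroup.zpowers z₀ := by
    intro H hH
    by_contra hne
    have hnt : H ≠ ⊥ := by
      intro h
      rw [h, Subgroup.card_bot] at hH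
      exact hp.one_lt.ne hH
    obtain ⟨⟨h0, hhH⟩, hh1⟩ := (Subgroup.ne_bot_iff_exists_ne_one).mp hnt
    have hh1' : h0 ≠ 1 := fun hcon => hh1 (Subtype.ext hcon)
    have hhord : orderOf h0 = p := by
      have h1 : orderOf h0 ∣ p := by
        have h0' := Subgroup.orderOf_dvd_natCard H hhH
        rw [hH] at h0'
        exact h0'
      rcases (Nat.dvd_prime hp).mp h1 with h2 | h2
      · exact absurd (orderOf_eq_one_iff.mp h2) hh1'
      · exact h2
    have hHz : H = Subgroup.zpowers h0 := by
      symm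
      apply Subgroup.eq_of_le_of_card_ge
      · rw [Subgroup.zpowers_le]
        exact hhH
      · rw [Nat.card_zpowers, hhord, hH]
    have hnotin : h0 ∉ Subgroup.zpowers z₀ := by
      intro hin
      apply hne
      rw [hHz]
      apply Subgroup.eq_of_le_of_card_ge
      · rw [Subgroup.zpowers_le]
        exact hin
      · rw [Nat.card_zpowers, Nat.card_zpowers, hhord, hz₀ord]
    obtain ⟨h, hhP⟩ := h0
    -- move to G
    have hhordG : orderOf h = p :=
      (Subgroup.orderOf_coe (⟨h, hhP⟩ : ↥(P : Subgroup G))).trans hhord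
    have hzordG : orderOf (z₀ : G) = p := (Subgroup.orderOf_coe z₀).trans hz₀ord
    have hcG : h * (z₀ : G) = (z₀ : G) * h := congrArg Subtype.val (hz₀c ⟨h, hhP⟩)
    have hnotinG : h ∉ Subgroup.zpowers (z₀ : G) := by
      intro hin
      apply hnotin
      obtain ⟨k, hk⟩ := Subgroup.mem_zpowers_iff.mp hin
      rw [Subgroup.mem_zpowers_iff]
      refine ⟨k, Subtype.ext ?_⟩
      rw [Subgroup.coe_zpow]
      exact hk
    obtain ⟨E, hEc, hEcard, hEexp, -, -⟩ :=
      exists_elemAb_of_commute p h (z₀ : G) hhordG hzordG hcG hnotinG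
    haveI hEi : IsMulCommutative ↥E := ⟨⟨fun a b => Subtype.ext (hEc a.1 a.2 b.1 b.2)⟩⟩
    have hCcard : Nat.card ↥(Subgroup.zpowers y) = Nat.card ↥E := by
      rw [Nat.card_zpowers, hyord, hEcard]
    obtain ⟨g, hg⟩ := hB (Subgroup.zpowers y) E inferInstance hEi hCcard
    have h1 : g * y * g⁻¹ ∈ E := by
      rw [hg]
      exact ⟨y, Subgroup.mem_zpowers y, rfl⟩
    have h2 := hEexp _ h1
    rw [conj_pow] at h2
    have h3 : y ^ p = 1 := by
      have : y ^ p = g⁻¹ * (g * y ^ p * g⁻¹) * g := by group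
      rw [this, h2]
      group
    have h4 : orderOf y ∣ p := orderOf_dvd_of_pow_eq_one h3
    rw [hyord] at h4
    have h5 : p ^ 2 ≤ p := Nat.le_of_dvd hp.pos h4
    have h6 : p < p ^ 2 := by
      have := hp.one_lt
      nlinarith
    omega
  have huniq : ∀ H K : Subgroup ↥(P : Subgroup G), Nat.card H = p → Nat.card K = p → H = K := by
    intro H K hH hK
    rw [hone H hH, hone K hK]
  exact Cfsg.Agent.Lib.Lead.unique_sub_cyclic_or_quat p P.2 huniq

end Cfsg.Agent.Lib.Helper6
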