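import Mathlib

set_option autoImplicit false

namespace Cfsg.Agent.Lib.Helper6

/-- The intersection of a Sylow subgroup with a normal subgroup is a Sylow subgroup of it. -/
theorem sylow_inf_normal {G : Type*} [Group G] [Finite G] {p : ℕ} [Fact p.Prime] (P : Sylow p G)
    (N : Subgroup G) [N.Normal] :
    ∃ P₁ : Sylow p N, (P₁ : Subgroup N).map N.subtype = (P : Subgroup G) ⊓ N := by
  have hpg : IsPGroup p ((P : Subgroup G).subgroupOf N) := P.isPGroup'.comap_subtype
  obtain ⟨P₁, hP₁⟩ := hpg.exists_le_sylow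
  refine ⟨P₁, ?_⟩
  have hpg' : IsPGroup p ((P₁ : Subgroup N).map N.subtype) := P₁.isPGroup'.map _
  obtain ⟨Q, hQ⟩ := hpg'.exists_le_sylow
  obtain ⟨g, rfl⟩ := MulAction.exists_smul_eq G P Q
  have h1 : (P : Subgroup G) ⊓ N ≤ (P₁ : Subgroup N).map N.subtype := by
    intro x hx
    exact ⟨⟨x, hx.2⟩, hP₁ (Subgroup.mem_subgroupOf.mpr hx.1), rfl⟩
  have h2 : (P₁ : Subgroup N).map N.subtype ≤ ((g • P : Sylow p G) : Subgroup G) ⊓ N := by
    refine le_inf hQ ?_
    rintro _ ⟨y, -, rfl⟩
    exact y.2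
  have h3 : Nat.card ↥(((g • P : Sylow p G) : Subgroup G) ⊓ N) = Nat.card ↥((P : Subgroup G) ⊓ N) := by
    have : ((g • P : Sylow p G) : Subgroup G) ⊓ N
        = ((P : Subgroup G) ⊓ N).map (MulAut.conj g).toMonoidHom := by
      rw [Subgroup.map_inf _ _ _ (MulAut.conj g).injective]
      congr 1
      exact (Subgroup.Normal.map_conj_eq (H := N) g).symm
    rw [this, Subgroup.card_map_of_injective (MulAut.conj g).injective]
  have h4 := Subgroup.card_le_of_le h2
  exact (Subgroup.eq_of_le_of_card_ge h1 (by omega)).symm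

/-- In a finite group, every proper subgroup is contained in a maximal subgroup. -/
theorem exists_coatom_ge {G : Type*} [Group G] [Finite G] (H : Subgroup G) (hH : H ≠ ⊤) :
    ∃ M : Subgroup G, IsCoatom M ∧ H ≤ M := by
  rcases eq_top_or_exists_le_coatom H with h | ⟨M, hM, hle⟩
  · exact absurd h hH
  · exact ⟨M, hM, hle⟩

/-- A simple `p`-group is commutative. -/
theorem comm_of_simple_pgroup {G : Type*} [Group G] [Finite G] [IsSimpleGroup G] {p : ℕ}
    [Fact p.Prime] (h : IsPGroup p G) : ∀ a b : G, a * b = b * a := by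
  have : Group.IsNilpotent G := h.isNilpotent
  exact IsSimpleGroup.comm_iff_isSolvable.mpr inferInstance

end Cfsg.Agent.Lib.Helper6
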