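import Mathlib

set_option autoImplicit false

namespace Cfsg.Agent.Lib.Helper6

open MulAction

/-- Burnside's orbit-counting lemma in `Nat.card` form. -/
theorem burnside_natCard (G X : Type*) [Group G] [MulAction G X] [Fintype G] [Finite X] :
    ∑ g : G, Nat.card (fixedBy X g) = Nat.card (orbitRel.Quotient G X) * Nat.card G := by
  classical
  have : Fintype X := Fintype.ofFinite X
  have := sum_card_fixedBy_eq_card_orbits_mul_card_group G X
  simp only [Nat.card_eq_fintype_card]
  convert this

/-- The number of orbits of a transitive action on a nonempty set is one. -/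
theorem card_orbits_eq_one (G X : Type*) [Group G] [MulAction G X] [IsPretransitive G X]
    [Nonempty X] : Nat.card (orbitRel.Quotient G X) = 1 := by
  rw [Nat.card_eq_one_iff_unique]
  refine ⟨(pretransitive_iff_subsingleton_quotient G X).mp inferInstance, ?_⟩
  obtain ⟨x⟩ := (inferInstance : Nonempty X)
  exact ⟨Quotient.mk'' x⟩

/-- Counting core: a subgroup `D` containing all derangements of a transitive finite group has
exactly one orbit, and every element outside `D` has exactly one fixed point. -/
theorem der_core {G Ω : Type*} [Group G] [Finite G] [MulAction G Ω] [Finite Ω] [Nonempty Ω]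
    [IsPretransitive G Ω] (D : Subgroup G) (hD : ∀ g : G, (∀ ω : Ω, g • ω ≠ ω) → g ∈ D) :
    Nat.card (orbitRel.Quotient D Ω) = 1 ∧ ∀ g : G, g ∉ D → Nat.card (fixedBy Ω g) = 1 := by
  classical
  have : Fintype G := Fintype.ofFinite G
  set f : G → ℕ := fun g => Nat.card (fixedBy Ω g) with hf
  have hBG : ∑ g : G, f g = Nat.card G := by
    rw [hf, burnside_natCard G Ω, card_orbits_eq_one, one_mul]
  have hBD : ∑ d : D, f (d : G) = Nat.card (orbitRel.Quotient D Ω) * Nat.card D := by
    rw [← burnside_natCard D Ω]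
    rfl
  have hsplit : ∑ g : G, f g = ∑ g ∈ Finset.univ.filter (fun g : G => g ∈ D), f g +
      ∑ g ∈ Finset.univ.filter (fun g : G => g ∉ D), f g :=
    (Finset.sum_filter_add_sum_filter_not Finset.univ (fun g : G => g ∈ D) f).symm
  have hsub : ∑ g ∈ Finset.univ.filter (fun g : G => g ∈ D), f g = ∑ d : D, f (d : G) :=
    Finset.sum_subtype (Finset.univ.filter (fun g : G => g ∈ D)) (by simp) f
  have hge1 : ∀ g ∈ Finset.univ.filter (fun g : G => g ∉ D), 1 ≤ f g := by
    intro g hg
    rw [Finset.mem_filter] at hg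
    have hnd : ¬ ∀ ω : Ω, g • ω ≠ ω := fun h => hg.2 (hD g h)
    push Not at hnd
    obtain ⟨ω, hω⟩ := hnd
    have : Nonempty (fixedBy Ω g) := ⟨⟨ω, hω⟩⟩
    exact Nat.card_pos
  have hcardnot : (Finset.univ.filter (fun g : G => g ∉ D)).card + Nat.card D = Nat.card G := by
    have h1 := Finset.card_filter_add_card_filter_not (s := (Finset.univ : Finset G)) (fun g : G => g ∈ D)
    have h2 : (Finset.univ.filter (fun g : G => g ∈ D)).card = Nat.card D := by
      rw [Nat.card_eq_fintype_card, Fintype.card_subtype]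
    rw [h2, Finset.card_univ, ← Nat.card_eq_fintype_card] at h1
    omega
  have hle : (Finset.univ.filter (fun g : G => g ∉ D)).card ≤
      ∑ g ∈ Finset.univ.filter (fun g : G => g ∉ D), f g := by
    have := Finset.sum_le_sum hge1
    simpa using this
  have hDpos : 0 < Nat.card D := Nat.card_pos
  have hcpos : 0 < Nat.card (orbitRel.Quotient D Ω) := by
    obtain ⟨x⟩ := (inferInstance : Nonempty Ω)
    have : Nonempty (orbitRel.Quotient D Ω) := ⟨Quotient.mk'' x⟩
    exact Nat.card_pos
  have hc1 : Nat.card (orbitRel.Quotient D Ω) = 1 := by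
    by_contra hne
    have h2 : 2 ≤ Nat.card (orbitRel.Quotient D Ω) := by omega
    have h3 : 2 * Nat.card D ≤ Nat.card (orbitRel.Quotient D Ω) * Nat.card D :=
      Nat.mul_le_mul_right _ h2
    rw [hsplit, hsub, hBD] at hBG
    omega
  refine ⟨hc1, ?_⟩
  have hsum1 : ∑ g ∈ Finset.univ.filter (fun g : G => g ∉ D), f g =
      ∑ g ∈ Finset.univ.filter (fun g : G => g ∉ D), 1 := by
    rw [hsplit, hsub, hBD, hc1, one_mul] at hBG
    simp only [Finset.sum_const, smul_eq_mul, mul_one]
    omega
  have hall := (Finset.sum_eq_sum_iff_of_le (fun g hg => hge1 g hg)).mp hsum1.symm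
  intro g hg
  exact (hall g (by simp [hg])).symm

/-- The subgroup generated by the derangements of a transitive finite group is transitive. -/
theorem der_pretransitive {G Ω : Type*} [Group G] [Finite G] [MulAction G Ω] [Finite Ω]
    [IsPretransitive G Ω] (D : Subgroup G) (hD : ∀ g : G, (∀ ω : Ω, g • ω ≠ ω) → g ∈ D) :
    IsPretransitive D Ω := by
  rcases isEmpty_or_nonempty Ω with hΩ | hΩ
  · exact ⟨fun x => hΩ.elim x⟩
  · rw [pretransitive_iff_subsingleton_quotient D Ω]
    have := (der_core D hD).1
    exact (Nat.card_eq_one_iff_unique.mp this).1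

/-- Every element outside the subgroup generated by the derangements has exactly one fixed
point. -/
theorem der_card_fixedBy {G Ω : Type*} [Group G] [Finite G] [MulAction G Ω] [Finite Ω]
    [IsPretransitive G Ω] (D : Subgroup G) (hD : ∀ g : G, (∀ ω : Ω, g • ω ≠ ω) → g ∈ D)
    (g : G) (hg : g ∉ D) : Nat.card (fixedBy Ω g) = 1 := by
  rcases isEmpty_or_nonempty Ω with hΩ | hΩ
  · exact absurd (hD g (fun ω => hΩ.elim ω)) hg
  · exact (der_core D hD).2 g hg

end Cfsg.Agent.Lib.Helper6
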