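import Mathlib

set_option autoImplicit false

namespace Cfsg.Agent.Lib.Helper6

/-- Commuting nontrivial `p`- and `q`-elements give an element of order `p * q`. -/
theorem exists_orderOf_mul_of_commute {G : Type*} [Group G] (p q : ℕ) (hp : p.Prime) (hq : q.Prime)
    (hpq : p ≠ q) (x y : G) (hx1 : x ≠ 1) (hy1 : y ≠ 1) (hx : ∃ i : ℕ, x ^ p ^ i = 1)
    (hy : ∃ j : ℕ, y ^ q ^ j = 1) (hc : Commute x y) : ∃ z : G, orderOf z = p * q := by
  have key : ∀ (p : ℕ) (hp : p.Prime) (x : G), x ≠ 1 → (∃ i : ℕ, x ^ p ^ i = 1) →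
      orderOf (x ^ (orderOf x / p)) = p := by
    intro p hp x hx1 ⟨i, hi⟩
    have hdvd : orderOf x ∣ p ^ i := orderOf_dvd_of_pow_eq_one hi
    obtain ⟨a, -, ha⟩ := (Nat.dvd_prime_pow hp).1 hdvd
    have ha0 : a ≠ 0 := by
      rintro rfl
      rw [pow_zero, orderOf_eq_one_iff] at ha
      exact hx1 ha
    have hpd : p ∣ orderOf x := by
      rw [ha]; exact dvd_pow_self p ha0
    have hne : orderOf x ≠ 0 := by
      rw [ha]; exact pow_ne_zero _ hp.ne_zero
    exact orderOf_pow_orderOf_div hne hpd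
  have h1 := key p hp x hx1 hx
  have h2 := key q hq y hy1 hy
  have hc' : Commute (x ^ (orderOf x / p)) (y ^ (orderOf y / q)) := hc.pow_pow _ _
  refine ⟨x ^ (orderOf x / p) * y ^ (orderOf y / q), ?_⟩
  rw [hc'.orderOf_mul_eq_mul_orderOf_of_coprime (by
    rw [h1, h2]; exact (Nat.coprime_primes hp hq).mpr hpq), h1, h2]

/-- The averaging argument for a Frobenius group `Q ⋊ ⟨x⟩` acting on an abelian group `V` with
`Q` acting fixed-point-freely: if `x` has no non-trivial fixed point on `V` either, then `V` has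
exponent dividing `|Q|`. -/
theorem frob_avg {H V : Type*} [Group H] [CommGroup V] (φ : H →* MulAut V) (Q : Subgroup H)
    [Finite Q] (x : H) (r : ℕ) (hr : 0 < r) (hxr : x ^ r = 1)
    (hnorm : ∀ i : ℕ, ∀ g ∈ Q, x ^ i * g * (x ^ i)⁻¹ ∈ Q)
    (hQ1 : ∃ g ∈ Q, g ≠ 1)
    (ha : ∀ g ∈ Q, g ≠ 1 → ∀ v : V, φ g v = v → v = 1)
    (hb : ∀ i : ℕ, 0 < i → i < r → ∀ g ∈ Q, x ^ i * g = g * x ^ i → g = 1)
    (hc : ∀ v : V, φ x v = v → v = 1) (v : V) : v ^ Nat.card Q = 1 := by
  classical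
  letI : Fintype Q := Fintype.ofFinite Q
  have hNQ : ∀ u : V, ∏ g : Q, φ (g : H) u = 1 := by
    intro u
    obtain ⟨g0, hg0, hg01⟩ := hQ1
    apply ha g0 hg0 hg01
    rw [map_prod]
    have h1 : ∀ g : Q, φ g0 (φ (g : H) u) = φ (((⟨g0, hg0⟩ : Q) * g : Q) : H) u := by
      intro g
      rw [Subgroup.coe_mul, map_mul]
      rfl
    simp_rw [h1]
    exact Equiv.prod_comp (Equiv.mulLeft (⟨g0, hg0⟩ : Q)) (fun g : Q => φ (g : H) u)
  have hNX : ∀ u : V, ∏ i ∈ Finset.range r, φ (x ^ i) u = 1 := by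
    intro u
    apply hc
    rw [map_prod]
    have h0 : ∀ i ∈ Finset.range r, φ x (φ (x ^ i) u) = φ (x ^ (i + 1)) u := by
      intro i _
      rw [pow_succ', map_mul]
      rfl
    rw [Finset.prod_congr rfl h0]
    have h1 := Finset.prod_range_succ' (fun i => φ (x ^ i) u) r
    have h2 := Finset.prod_range_succ (fun i => φ (x ^ i) u) r
    rw [h2] at h1
    simp only [hxr, pow_zero] at h1
    exact (mul_right_cancel h1).symm
  have hconj : ∀ i : ℕ, 0 < i → i < r → ∏ g : Q, φ ((g : H) * x ^ i * (g : H)⁻¹) v = 1 := by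
    intro i hi0 hir
    let β : Q → Q := fun g =>
      ⟨(g : H) * (x ^ i * (g : H)⁻¹ * (x ^ i)⁻¹), Q.mul_mem g.2 (hnorm i _ (Q.inv_mem g.2))⟩
    have hβinj : Function.Injective β := by
      intro g h hgh
      have h1 : (g : H) * (x ^ i * (g : H)⁻¹ * (x ^ i)⁻¹) =
          (h : H) * (x ^ i * (h : H)⁻¹ * (x ^ i)⁻¹) := congrArg Subtype.val hgh
      have h3 : (g : H) * x ^ i * (g : H)⁻¹ = (h : H) * x ^ i * (h : H)⁻¹ := by
        have := congrArg (fun z => z * x ^ i) h1
        simpa [mul_assoc] using this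
      have h2 : x ^ i * ((h : H)⁻¹ * (g : H)) = ((h : H)⁻¹ * (g : H)) * x ^ i := by
        calc x ^ i * ((h : H)⁻¹ * (g : H))
            = (h : H)⁻¹ * ((h : H) * x ^ i * (h : H)⁻¹) * (g : H) := by group
          _ = (h : H)⁻¹ * ((g : H) * x ^ i * (g : H)⁻¹) * (g : H) := by rw [h3]
          _ = ((h : H)⁻¹ * (g : H)) * x ^ i := by group
      have h4 := hb i hi0 hir _ (Q.mul_mem (Q.inv_mem h.2) g.2) h2
      rw [inv_mul_eq_one] at h4
      exact Subtype.ext h4.symm
    have hβbij : Function.Bijective β := Finite.injective_iff_bijective.mp hβinj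
    have h5 : ∀ g : Q, φ ((g : H) * x ^ i * (g : H)⁻¹) v = φ (((β g : Q) : H) * x ^ i) v := by
      intro g
      have : (g : H) * x ^ i * (g : H)⁻¹ = ((β g : Q) : H) * x ^ i := by
        simp only [β]; group
      rw [this]
    simp_rw [h5]
    have h8 := Equiv.prod_comp (Equiv.ofBijective β hβbij) (fun g : Q => φ ((g : H) * x ^ i) v)
    simp only [Equiv.ofBijective_apply] at h8
    rw [h8]
    have h6 : ∀ g : Q, φ ((g : H) * x ^ i) v = φ (g : H) (φ (x ^ i) v) := by
      intro g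
      rw [map_mul]
      rfl
    simp_rw [h6]
    exact hNQ _
  have hD1 : ∏ i ∈ Finset.range r, ∏ g : Q, φ ((g : H) * x ^ i * (g : H)⁻¹) v
      = v ^ Nat.card Q := by
    rw [Finset.prod_eq_single_of_mem 0 (Finset.mem_range.mpr hr)]
    · simp [Finset.prod_const, Nat.card_eq_fintype_card]
    · intro i hi hi0
      exact hconj i (Nat.pos_of_ne_zero hi0) (Finset.mem_range.mp hi)
  have hD2 : ∏ i ∈ Finset.range r, ∏ g : Q, φ ((g : H) * x ^ i * (g : H)⁻¹) v = 1 := by
    rw [Finset.prod_comm]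
    apply Finset.prod_eq_one
    intro g _
    have h7 : ∀ i ∈ Finset.range r, φ ((g : H) * x ^ i * (g : H)⁻¹) v
        = φ (g : H) (φ (x ^ i) (φ (g : H)⁻¹ v)) := by
      intro i _
      rw [map_mul, map_mul]
      rfl
    rw [Finset.prod_congr rfl h7, ← map_prod, hNX, map_one]
  rw [← hD1, hD2]

/-- If `V` is a nontrivial normal `p`-subgroup, `M` is normal with `q ∣ |M|` and `r ∣ |G : M|`,
then two of the three distinct primes are adjacent in the prime graph. -/
theorem three_primes_normal {G : Type*} [Group G] [Finite G] (V M : Subgroup G) [hVn : V.Normal]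
    [hMn : M.Normal] (p q r : ℕ) (hp : p.Prime) (hq : q.Prime) (hr : r.Prime) (hpq : p ≠ q)
    (hpr : p ≠ r) (hqr : q ≠ r) (hV : IsPGroup p V) (hV1 : V ≠ ⊥) (hqM : q ∣ Nat.card M)
    (hrM : r ∣ M.index) :
    (∃ x : G, orderOf x = p * q) ∨ (∃ x : G, orderOf x = p * r) ∨ (∃ x : G, orderOf x = q * r) := by
  classical
  by_contra hcon
  push Not at hcon
  obtain ⟨hno_pq, hno_pr, hno_qr⟩ := hcon
  haveI : Fact p.Prime := ⟨hp⟩
  haveI : Fact q.Prime := ⟨hq⟩
  haveI : Fact r.Prime := ⟨hr⟩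
  obtain ⟨A, hAdef⟩ : ∃ A : Subgroup G, A = V ⊓ Subgroup.centralizer (V : Set G) := ⟨_, rfl⟩
  haveI hAn : A.Normal := by rw [hAdef]; infer_instance
  have hAcomm : ∀ a b : A, a * b = b * a := by
    intro a b
    apply Subtype.ext
    have ha : (a : G) ∈ V ⊓ Subgroup.centralizer (V : Set G) := by rw [← hAdef]; exact a.2
    have hb : (b : G) ∈ V ⊓ Subgroup.centralizer (V : Set G) := by rw [← hAdef]; exact b.2
    rw [Subgroup.mem_inf] at ha hb
    have := (Subgroup.mem_centralizer_iff.mp hb.2) a ha.1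
    simpa using this
  have hA1 : A ≠ ⊥ := by
    haveI : Nontrivial V := (Subgroup.nontrivial_iff_ne_bot V).mpr hV1
    haveI := hV.center_nontrivial
    obtain ⟨z, hz⟩ := exists_ne (1 : Subgroup.center V)
    intro hbot
    have hzA : ((z : V) : G) ∈ A := by
      rw [hAdef, Subgroup.mem_inf]
      refine ⟨(z : V).2, ?_⟩
      rw [Subgroup.mem_centralizer_iff]
      intro h hh
      have := (Subgroup.mem_center_iff.mp z.2) ⟨h, hh⟩
      exact congrArg Subtype.val this
    rw [hbot, Subgroup.mem_bot] at hzA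
    apply hz
    apply Subtype.ext
    apply Subtype.ext
    exact hzA
  have hAp : ∀ v ∈ A, ∃ i : ℕ, v ^ p ^ i = 1 := by
    intro v hv
    rw [hAdef, Subgroup.mem_inf] at hv
    obtain ⟨i, hi⟩ := hV ⟨v, hv.1⟩
    exact ⟨i, congrArg Subtype.val hi⟩
  obtain ⟨Q⟩ : Nonempty (Sylow q M) := inferInstance
  obtain ⟨Q0, hQ0def⟩ : ∃ Q0 : Subgroup G, Q0 = (Q : Subgroup M).map M.subtype := ⟨_, rfl⟩
  have hQ0card : Nat.card Q0 = q ^ (Nat.card M).factorization q := by
    rw [hQ0def, Subgroup.card_map_of_injective M.subtype_injective, Sylow.card_eq_multiplicity]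
  have hQ0q : ∀ g ∈ Q0, ∃ j : ℕ, g ^ q ^ j = 1 := by
    intro g hg
    have : IsPGroup q Q0 := IsPGroup.of_card hQ0card
    obtain ⟨j, hj⟩ := this ⟨g, hg⟩
    exact ⟨j, congrArg Subtype.val hj⟩
  have hQ0ne : ∃ g ∈ Q0, g ≠ 1 := by
    have hfac : 0 < (Nat.card M).factorization q :=
      hq.factorization_pos_of_dvd Nat.card_pos.ne' hqM
    have h1 : 1 < Nat.card Q0 := by
      rw [hQ0card]; exact Nat.one_lt_pow hfac.ne' hq.one_lt
    haveI : Nontrivial Q0 := (Finite.one_lt_card_iff_nontrivial).mp h1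
    obtain ⟨g, hg⟩ := exists_ne (1 : Q0)
    exact ⟨g, g.2, fun h => hg (Subtype.ext h)⟩
  have hfr : Subgroup.normalizer (Q0 : Set G) ⊔ M = ⊤ := by
    rw [hQ0def]; exact Sylow.normalizer_sup_eq_top Q
  have hrN : r ∣ Nat.card (Subgroup.normalizer (Q0 : Set G)) := by
    have h1 : M.relIndex (Subgroup.normalizer (Q0 : Set G) ⊔ M) =
        M.relIndex (Subgroup.normalizer (Q0 : Set G)) := Subgroup.relIndex_sup_right _ _
    rw [hfr, Subgroup.relIndex_top_right] at h1
    rw [h1] at hrM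
    exact hrM.trans (Subgroup.relIndex_dvd_card _ _)
  obtain ⟨x, hx⟩ := exists_prime_orderOf_dvd_card' r hrN
  have hx0 : orderOf (x : G) = r := by rw [Subgroup.orderOf_coe]; exact hx
  have hxr : (x : G) ^ r = 1 := by rw [← hx0]; exact pow_orderOf_eq_one _
  have hnorm : ∀ i : ℕ, ∀ g ∈ Q0, (x : G) ^ i * g * ((x : G) ^ i)⁻¹ ∈ Q0 := by
    intro i g hg
    have hxi : (x : G) ^ i ∈ Subgroup.normalizer (Q0 : Set G) := Subgroup.pow_mem _ x.2 i
    exact (Subgroup.mem_normalizer_iff.mp hxi g).mp hg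
  letI : CommGroup A := { (inferInstance : Group A) with mul_comm := hAcomm }
  let φ : G →* MulAut A := MulAut.conjNormal
  have hφ : ∀ (g : G) (v : A), φ g v = v ↔ g * (v : G) = (v : G) * g := by
    intro g v
    constructor
    · intro h
      have h1 := congrArg Subtype.val h
      simp only [φ, MulAut.conjNormal_apply] at h1
      calc g * (v : G) = (g * (v : G) * g⁻¹) * g := by group
        _ = (v : G) * g := by rw [h1]
    · intro h
      apply Subtype.ext
      simp only [φ, MulAut.conjNormal_apply]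
      rw [h]; group
  have key := frob_avg φ Q0 (x : G) r hr.pos hxr hnorm hQ0ne ?_ ?_ ?_
  · apply hA1
    rw [eq_bot_iff]
    intro v hv
    rw [Subgroup.mem_bot]
    have h1 := key ⟨v, hv⟩
    have h2 : v ^ Nat.card Q0 = 1 := congrArg Subtype.val h1
    obtain ⟨i, hi⟩ := hAp v hv
    have hd1 : orderOf v ∣ q ^ (Nat.card M).factorization q := by
      rw [← hQ0card]; exact orderOf_dvd_of_pow_eq_one h2
    have hd2 : orderOf v ∣ p ^ i := orderOf_dvd_of_pow_eq_one hi
    have hcop : Nat.Coprime (q ^ (Nat.card M).factorization q) (p ^ i) :=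
      Nat.Coprime.pow _ _ ((Nat.coprime_primes hq hp).mpr (Ne.symm hpq))
    have := Nat.eq_one_of_dvd_coprimes hcop hd1 hd2
    exact orderOf_eq_one_iff.mp this
  · intro g hg hg1 v hv
    rw [hφ] at hv
    by_contra hv1
    have hv1' : (v : G) ≠ 1 := fun h => hv1 (Subtype.ext h)
    obtain ⟨z, hz⟩ := exists_orderOf_mul_of_commute q p hq hp (Ne.symm hpq) g (v : G) hg1 hv1'
      (hQ0q g hg) (hAp v v.2) hv
    exact hno_pq z (by rw [hz, mul_comm])
  · intro i hi0 hir g hg hcomm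
    by_contra hg1
    have hxi1 : (x : G) ^ i ≠ 1 := by
      intro h
      have := orderOf_dvd_of_pow_eq_one h
      rw [hx0] at this
      have := Nat.le_of_dvd hi0 this
      omega
    obtain ⟨z, hz⟩ := exists_orderOf_mul_of_commute q r hq hr hqr g ((x : G) ^ i) hg1 hxi1
      (hQ0q g hg) ⟨1, by rw [pow_one, ← pow_mul, mul_comm, pow_mul, hxr, one_pow]⟩ hcomm.symm
    exact hno_qr z hz
  · intro v hv
    rw [hφ] at hv
    by_contra hv1
    have hv1' : (v : G) ≠ 1 := fun h => hv1 (Subtype.ext h)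
    have hx1 : (x : G) ≠ 1 := by
      intro h
      rw [h, orderOf_one] at hx0
      exact hr.one_lt.ne hx0
    obtain ⟨z, hz⟩ := exists_orderOf_mul_of_commute p r hp hr hpr (v : G) (x : G) hv1' hx1
      (hAp v v.2) ⟨1, by rw [pow_one]; exact hxr⟩ hv.symm
    exact hno_pr z hz

end Cfsg.Agent.Lib.Helper6
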