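import Mathlib
import Cfsg.Agent.Lib.Helper6.SylowSub

set_option autoImplicit false

namespace Cfsg.Agent.Lib.Helper6

open scoped Pointwise

/-- For `N` normal and `A ⊓ N = ⊥`, `|A ⊔ N| = |N| * |A|`. -/
theorem card_sup_of_normal_disjoint {G : Type*} [Group G] [Finite G] (A N : Subgroup G)
    [N.Normal] (hA : A ⊓ N = ⊥) :
    Nat.card (A ⊔ N : Subgroup G) = Nat.card N * Nat.card A := by
  have h1 := card_mul_relIndex_of_le (le_sup_right : N ≤ A ⊔ N)
  rw [Subgroup.relIndex_sup_right, ← Subgroup.inf_relIndex_right, inf_comm, hA,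
    Subgroup.relIndex_bot_left] at h1
  exact h1.symm

/-- Coprime action: a `p`-subgroup `P` normalizes some Sylow `r`-subgroup of a normal subgroup
`A` of order prime to `p`. -/
theorem exists_invariant_sylow {G : Type*} [Group G] [Finite G] (p r : ℕ) [Fact p.Prime]
    [Fact r.Prime] (A : Subgroup G) [hAn : A.Normal] (hA : (Nat.card A).Coprime p)
    (P : Subgroup G) (hP : IsPGroup p P) :
    ∃ R : Subgroup G, R ≤ A ∧ IsPGroup r R ∧ ¬ r ∣ R.relIndex A ∧
      ∀ g ∈ P, ∀ y ∈ R, g * y * g⁻¹ ∈ R := by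
  have hp : p.Prime := Fact.out
  have hK : IsPGroup p (P.comap (ConjAct.ofConjAct (G := G)).toMonoidHom) :=
    hP.comap_of_injective _ (ConjAct.ofConjAct (G := G)).injective
  have hnd : ¬ p ∣ Nat.card (Sylow r A) := by
    intro h
    obtain ⟨R₀⟩ : Nonempty (Sylow r A) := inferInstance
    have h1 : Nat.card (Sylow r A) ∣ Nat.card A :=
      (Sylow.card_dvd_index R₀).trans (Subgroup.index_dvd_card _)
    exact (hp.coprime_iff_not_dvd.mp hA.symm) (h.trans h1)
  obtain ⟨R₀, hR₀⟩ := hK.nonempty_fixed_point_of_prime_not_dvd_card (Sylow r A) hnd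
  refine ⟨(R₀ : Subgroup A).map A.subtype, Subgroup.map_subtype_le _, R₀.isPGroup'.map _, ?_, ?_⟩
  · have h1 : ((R₀ : Subgroup A).map A.subtype).relIndex A = (R₀ : Subgroup A).index := by
      show (((R₀ : Subgroup A).map A.subtype).subgroupOf A).index = _
      rw [Subgroup.subgroupOf, Subgroup.comap_map_eq_self_of_injective A.subtype_injective]
    rw [h1]
    exact R₀.not_dvd_index
  · rintro g hg _ ⟨y, hy, rfl⟩
    have hk : ConjAct.toConjAct g ∈ P.comap (ConjAct.ofConjAct (G := G)).toMonoidHom := by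
      rw [Subgroup.mem_comap]
      exact hg
    have h1 : (ConjAct.toConjAct g) • R₀ = R₀ := hR₀ ⟨_, hk⟩
    have h2 : (ConjAct.toConjAct g) • y ∈ (ConjAct.toConjAct g) • (R₀ : Subgroup A) :=
      Subgroup.smul_mem_pointwise_smul _ _ _ hy
    rw [← Sylow.pointwise_smul_def, h1] at h2
    refine ⟨_, h2, ?_⟩
    rw [Subgroup.coe_subtype, ConjAct.Subgroup.val_conj_smul, ConjAct.smul_def,
      ConjAct.ofConjAct_toConjAct]

end Cfsg.Agent.Lib.Helper6
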