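import Mathlib

set_option autoImplicit false

namespace Cfsg.Agent.Lib.Helper6

open scoped Pointwise

/-- An involution mapping a subgroup into itself normalizes it. -/
theorem mem_normalizer_of_invol {G : Type*} [Group G] (t : G) (ht : t * t = 1) (K : Subgroup G)
    (h : ∀ k ∈ K, t * k * t⁻¹ ∈ K) : t ∈ Subgroup.normalizer (K : Set G) := by
  have hinv : t⁻¹ = t := inv_eq_of_mul_eq_one_right ht
  rw [Subgroup.mem_normalizer_iff]
  intro k
  constructor
  · exact h k
  · intro hk
    have h1 := h _ hk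
    have e : t * (t * k * t⁻¹) * t⁻¹ = k := by
      rw [hinv]
      calc t * (t * k * t) * t = (t * t) * k * (t * t) := by group
        _ = k := by rw [ht, one_mul, mul_one]
    rw [e] at h1
    exact h1

/-- A `p`-subgroup `S` between `R` and `C`, where `|C : R|` is prime to `p`, is inside `R`. -/
theorem pgroup_le_of_not_dvd_relIndex {G : Type*} [Group G] [Finite G] {p : ℕ} [Fact p.Prime]
    {R S C : Subgroup G} (hS : IsPGroup p S) (hRS : R ≤ S) (hSC : S ≤ C)
    (hidx : ¬ p ∣ R.relIndex C) : S ≤ R := by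
  have hp : p.Prime := Fact.out
  have h1 : R.relIndex S ∣ R.relIndex C :=
    Dvd.intro _ (Subgroup.relIndex_mul_relIndex R S C hRS hSC)
  obtain ⟨j, hj⟩ := hS.exists_card_eq
  have h2 : R.relIndex S ∣ p ^ j := by
    rw [← hj]
    exact Subgroup.relIndex_dvd_card R S
  obtain ⟨i, -, hi⟩ := (Nat.dvd_prime_pow hp).mp h2
  rcases Nat.eq_zero_or_pos i with rfl | hipos
  · rw [pow_zero] at hi
    exact Subgroup.relIndex_eq_one.mp hi
  · exfalso
    apply hidx
    rw [hi] at h1
    exact (dvd_pow_self p hipos.ne').trans h1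

/-- An involution normalizing a subgroup `K` of odd order normalizes some Sylow `p`-subgroup
of `K`. -/
theorem exists_invariant_sylow_of_odd {G : Type*} [Group G] [Finite G] (K : Subgroup G)
    (hK : Odd (Nat.card K)) (t : G) (ht : t * t = 1)
    (htK : t ∈ Subgroup.normalizer (K : Set G)) (p : ℕ) [Fact p.Prime] :
    ∃ R : Subgroup G, R ≤ K ∧ IsPGroup p R ∧ ¬ p ∣ R.relIndex K ∧
      t ∈ Subgroup.normalizer (R : Set G) := by
  classical
  have hinv : t⁻¹ = t := inv_eq_of_mul_eq_one_right ht
  have hmem : ∀ k : G, k ∈ K → t * k * t⁻¹ ∈ K := fun k hk =>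
    (Subgroup.mem_normalizer_iff.mp htK k).mp hk
  let φ : K ≃* K :=
    { toFun := fun k => ⟨t * k * t⁻¹, hmem k k.2⟩
      invFun := fun k => ⟨t * k * t⁻¹, hmem k k.2⟩
      left_inv := fun k => by
        apply Subtype.ext
        show t * (t * (k : G) * t⁻¹) * t⁻¹ = k
        rw [hinv]
        calc t * (t * (k : G) * t) * t = (t * t) * k * (t * t) := by group
          _ = k := by rw [ht, one_mul, mul_one]
      right_inv := fun k => by
        apply Subtype.ext
        show t * (t * (k : G) * t⁻¹) * t⁻¹ = k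
        rw [hinv]
        calc t * (t * (k : G) * t) * t = (t * t) * k * (t * t) := by group
          _ = k := by rw [ht, one_mul, mul_one]
      map_mul' := fun a b => by
        apply Subtype.ext
        show t * ((a : G) * (b : G)) * t⁻¹ = (t * (a : G) * t⁻¹) * (t * (b : G) * t⁻¹)
        group }
  have hφ2 : (φ : MulAut K) * φ = 1 := by
    ext k
    show t * (t * (k : G) * t⁻¹) * t⁻¹ = k
    rw [hinv]
    calc t * (t * (k : G) * t) * t = (t * t) * k * (t * t) := by group
      _ = k := by rw [ht, one_mul, mul_one]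
  have : Fintype (Sylow p K) := Fintype.ofFinite _
  let σ : Equiv.Perm (Sylow p K) := MulAction.toPermHom (MulAut K) (Sylow p K) φ
  have hσ : σ ^ 2 ^ 1 = 1 := by
    rw [pow_one, sq]
    show MulAction.toPermHom (MulAut K) (Sylow p K) φ * MulAction.toPermHom (MulAut K) (Sylow p K) φ = 1
    rw [← map_mul, hφ2, map_one]
  have hodd : ¬ 2 ∣ Fintype.card (Sylow p K) := by
    rw [← Nat.card_eq_fintype_card]
    intro h2
    obtain ⟨R'⟩ := (inferInstance : Nonempty (Sylow p K))
    have h3 : 2 ∣ Nat.card K :=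
      h2.trans ((Sylow.card_dvd_index R').trans (Subgroup.index_dvd_card _))
    exact (Nat.not_even_iff_odd.mpr hK) (even_iff_two_dvd.mpr h3)
  have : Fact (Nat.Prime 2) := ⟨Nat.prime_two⟩
  obtain ⟨R', hR'⟩ := Equiv.Perm.exists_fixed_point_of_prime hodd hσ
  have hR'' : (φ : MulAut K) • R' = R' := hR'
  have hφmem : ∀ r : K, r ∈ R' → φ r ∈ R' := by
    intro r hr
    have h1 : (φ : MulAut K) • r ∈ (φ : MulAut K) • (R' : Subgroup K) :=
      Subgroup.smul_mem_pointwise_smul r φ (R' : Subgroup K) hr
    have h2 : (φ : MulAut K) • (R' : Subgroup K) = ((φ : MulAut K) • R' : Sylow p K) := rfl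
    rw [h2, hR''] at h1
    exact h1
  refine ⟨(R' : Subgroup K).map K.subtype, ?_, R'.isPGroup'.map _, ?_, ?_⟩
  · rintro _ ⟨r, -, rfl⟩
    exact r.2
  · have h1 : ((R' : Subgroup K).map K.subtype).relIndex K = (R' : Subgroup K).index := by
      show (((R' : Subgroup K).map K.subtype).subgroupOf K).index = _
      congr 1
      exact Subgroup.comap_map_eq_self_of_injective K.subtype_injective _
    rw [h1]
    exact R'.not_dvd_index
  · apply mem_normalizer_of_invol t ht
    rintro _ ⟨r, hr, rfl⟩
    exact ⟨φ r, hφmem r hr, rfl⟩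

end Cfsg.Agent.Lib.Helper6
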