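import Mathlib

set_option autoImplicit false

namespace Cfsg.Agent.Lib.Helper6

open Polynomial in
theorem natDegree_X_pow_sub_X' (S : Type*) [CommRing S] [Nontrivial S] {n : ℕ} (hn : 1 < n) :
    (X ^ n - X : S[X]).natDegree = n := by
  have h1 : (X : S[X]).degree < (X ^ n : S[X]).degree := by
    rw [degree_X_pow, degree_X]
    exact mod_cast hn
  rw [natDegree_eq_of_degree_eq (degree_sub_eq_left_of_degree_lt h1), natDegree_X_pow]

/-- An additive group of exponent `q` on which an endomorphism `φ` with `φ ^ p = 1` acts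
irreducibly has at most `q ^ e` elements, whenever `q ^ e ≡ 1 (mod p)`. -/
theorem irr_card_le {M : Type*} [AddCommGroup M] [Finite M] [Nontrivial M] (q p e : ℕ)
    [hq : Fact q.Prime] (hM : ∀ m : M, q • m = 0) (φ : AddMonoid.End M) (hφ : φ ^ p = 1)
    (hqe : ∃ k : ℕ, q ^ e = 1 + p * k) (he : e ≠ 0)
    (hirr : ∀ B : AddSubgroup M, (∀ b ∈ B, φ b ∈ B) → B = ⊥ ∨ B = ⊤) : Nat.card M ≤ q ^ e := by
  classical
  obtain ⟨a, ha⟩ := exists_ne (0 : M)
  haveI : Nontrivial (AddMonoid.End M) := ⟨⟨0, 1, fun h =>
    ha (DFunLike.congr_fun h a).symm⟩⟩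
  have hq0 : (q : AddMonoid.End M) = 0 := by
    ext m
    simp [hM]
  haveI : CharP (AddMonoid.End M) q := (CharP.charP_iff_prime_eq_zero hq.out).mpr hq0
  have hφq : φ ^ q ^ e = φ := by
    obtain ⟨k, hk⟩ := hqe
    rw [hk, pow_add, pow_one, pow_mul, hφ, one_pow, mul_one]
  have hcomm : ∀ a ∈ ({φ} : Set (AddMonoid.End M)), ∀ b ∈ ({φ} : Set (AddMonoid.End M)),
      a * b = b * a := by
    intro a ha b hb
    rw [Set.mem_singleton_iff] at ha hb
    rw [ha, hb]
  haveI : IsMulCommutative (Subring.closure ({φ} : Set (AddMonoid.End M))) :=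
    Subring.isMulCommutative_closure hcomm
  letI : CommRing (Subring.closure ({φ} : Set (AddMonoid.End M))) :=
    { (inferInstance : Ring (Subring.closure ({φ} : Set (AddMonoid.End M)))) with
      mul_comm := fun x y => IsMulCommutative.is_comm.comm x y }
  obtain ⟨S, hS⟩ : ∃ S : Subring (AddMonoid.End M), S = Subring.closure ({φ} : Set (AddMonoid.End M)) :=
    ⟨_, rfl⟩
  have hφS : φ ∈ S := by rw [hS]; exact Subring.subset_closure rfl
  have hcommS : ∀ x ∈ S, ∀ y ∈ S, x * y = y * x := by
    intro x hx y hy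
    rw [hS] at hx hy
    exact congrArg Subtype.val
      (mul_comm (⟨x, hx⟩ : Subring.closure ({φ} : Set (AddMonoid.End M))) ⟨y, hy⟩)
  have hpow : ∀ r ∈ S, r ^ q ^ e = r := by
    intro r hr
    rw [hS] at hr
    induction hr using Subring.closure_induction with
    | mem x hx => rw [Set.mem_singleton_iff] at hx; rw [hx]; exact hφq
    | zero => exact zero_pow (pow_pos hq.out.pos e).ne'
    | one => exact one_pow _
    | add x y hx hy ihx ihy =>
      rw [add_pow_char_pow_of_commute _ _ (hcommS x (hS ▸ hx) y (hS ▸ hy)), ihx, ihy]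
    | neg x hx ih => rw [neg_pow, neg_one_pow_char_pow, ih, neg_one_mul]
    | mul x y hx hy ihx ihy =>
      rw [Commute.mul_pow (hcommS x (hS ▸ hx) y (hS ▸ hy)), ihx, ihy]
  have hker : ∀ r ∈ S, r = 0 ∨ Function.Injective r := by
    intro r hr
    have hinv : ∀ b ∈ AddMonoidHom.ker r, φ b ∈ AddMonoidHom.ker r := by
      intro b hb
      change r b = 0 at hb
      change r (φ b) = 0
      have h1 : r (φ b) = φ (r b) := DFunLike.congr_fun (hcommS r hr φ hφS) b
      rw [h1, hb, map_zero]
    rcases hirr _ hinv with h | h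
    · right
      exact (AddMonoidHom.ker_eq_bot_iff r).mp h
    · left
      ext m
      have : m ∈ AddMonoidHom.ker r := by rw [h]; trivial
      exact this
  have hsurj : Function.Surjective (fun r : S => (r : AddMonoid.End M) a) := by
    have hB := hirr
      { carrier := {m | ∃ r ∈ S, r a = m}
        zero_mem' := ⟨0, S.zero_mem, rfl⟩
        add_mem' := by
          rintro _ _ ⟨r, hr, rfl⟩ ⟨s, hs, rfl⟩
          exact ⟨r + s, S.add_mem hr hs, rfl⟩
        neg_mem' := by
          rintro _ ⟨r, hr, rfl⟩
          exact ⟨-r, S.neg_mem hr, rfl⟩ }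
      (by
        rintro _ ⟨r, hr, rfl⟩
        exact ⟨φ * r, S.mul_mem hφS hr, rfl⟩)
    rcases hB with h | h
    · exfalso
      have h1 : a ∈ ({ carrier := {m | ∃ r ∈ S, r a = m}
                       zero_mem' := ⟨0, S.zero_mem, rfl⟩
                       add_mem' := by
                         rintro _ _ ⟨r, hr, rfl⟩ ⟨s, hs, rfl⟩
                         exact ⟨r + s, S.add_mem hr hs, rfl⟩
                       neg_mem' := by
                         rintro _ ⟨r, hr, rfl⟩
                         exact ⟨-r, S.neg_mem hr, rfl⟩ } : AddSubgroup M) :=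
        ⟨1, S.one_mem, rfl⟩
      rw [h, AddSubgroup.mem_bot] at h1
      exact ha h1
    · intro m
      have h1 : m ∈ ({ carrier := {m | ∃ r ∈ S, r a = m}
                       zero_mem' := ⟨0, S.zero_mem, rfl⟩
                       add_mem' := by
                         rintro _ _ ⟨r, hr, rfl⟩ ⟨s, hs, rfl⟩
                         exact ⟨r + s, S.add_mem hr hs, rfl⟩
                       neg_mem' := by
                         rintro _ ⟨r, hr, rfl⟩
                         exact ⟨-r, S.neg_mem hr, rfl⟩ } : AddSubgroup M) := by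
        rw [h]; trivial
      obtain ⟨r, hr, rfl⟩ := h1
      exact ⟨⟨r, hr⟩, rfl⟩
  haveI : Finite (AddMonoid.End M) :=
    Finite.of_injective (fun f : AddMonoid.End M => (f : M → M)) DFunLike.coe_injective
  have h1 : Nat.card M ≤ Nat.card S := Nat.card_le_card_of_surjective _ hsurj
  subst hS
  haveI : NoZeroDivisors (Subring.closure ({φ} : Set (AddMonoid.End M))) := ⟨by
    intro x y hxy
    rcases hker x x.2 with h | h
    · left; exact Subtype.ext h
    · right
      apply Subtype.ext
      ext m
      have h2 : (x : AddMonoid.End M) ((y : AddMonoid.End M) m) = 0 :=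
        DFunLike.congr_fun (congrArg Subtype.val hxy) m
      exact h (h2.trans (map_zero (x : AddMonoid.End M)).symm)⟩
  haveI : Nontrivial (Subring.closure ({φ} : Set (AddMonoid.End M))) := ⟨⟨0, 1, by
    intro h01
    have h2 : (0 : AddMonoid.End M) a = (1 : AddMonoid.End M) a :=
      DFunLike.congr_fun (congrArg Subtype.val h01) a
    exact ha h2.symm⟩⟩
  haveI : IsDomain (Subring.closure ({φ} : Set (AddMonoid.End M))) := NoZeroDivisors.to_isDomain _
  haveI : Fintype (Subring.closure ({φ} : Set (AddMonoid.End M))) := Fintype.ofFinite _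
  have hn1 : 1 < q ^ e := Nat.one_lt_pow he hq.out.one_lt
  have hdeg := natDegree_X_pow_sub_X' (Subring.closure ({φ} : Set (AddMonoid.End M))) hn1
  have hne : (Polynomial.X ^ q ^ e - Polynomial.X :
      Polynomial (Subring.closure ({φ} : Set (AddMonoid.End M)))) ≠ 0 := by
    intro h0
    rw [h0, Polynomial.natDegree_zero] at hdeg
    omega
  have h2 : Nat.card (Subring.closure ({φ} : Set (AddMonoid.End M))) ≤ q ^ e := by
    rw [Nat.card_eq_fintype_card, ← Finset.card_univ]
    have h3 := Polynomial.card_le_degree_of_subset_roots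
      (p := (Polynomial.X ^ q ^ e - Polynomial.X :
        Polynomial (Subring.closure ({φ} : Set (AddMonoid.End M)))))
      (Z := Finset.univ) (by
        intro s _
        rw [Polynomial.mem_roots hne, Polynomial.IsRoot.def]
        simp only [Polynomial.eval_sub, Polynomial.eval_pow, Polynomial.eval_X]
        rw [sub_eq_zero]
        exact Subtype.ext (hpow s s.2))
    rw [hdeg] at h3
    exact h3
  exact h1.trans h2

end Cfsg.Agent.Lib.Helper6

namespace Cfsg.Agent.Lib.Helper6

section MinNormal

variable {G : Type*} [Group G] [Finite G]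

omit [Finite G] in
theorem sup_zpowers_eq_top_of_index_prime {p : ℕ} (hp : p.Prime) (A : Subgroup G)
    (hidx : A.index = p) (x : G) (hx : x ∉ A) : A ⊔ Subgroup.zpowers x = ⊤ := by
  have h1 : (A ⊔ Subgroup.zpowers x).index ∣ A.index := Subgroup.index_dvd_of_le le_sup_left
  rw [hidx] at h1
  rcases (Nat.dvd_prime hp).mp h1 with h | h
  · exact Subgroup.index_eq_one.mp h
  · exfalso
    have h2 := Subgroup.relIndex_mul_index (le_sup_left : A ≤ A ⊔ Subgroup.zpowers x)
    rw [h, hidx] at h2
    have h3 : A.relIndex (A ⊔ Subgroup.zpowers x) = 1 :=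
      Nat.eq_of_mul_eq_mul_right hp.pos (h2.trans (one_mul p).symm)
    rw [Subgroup.relIndex_eq_one] at h3
    exact hx (h3 (Subgroup.mem_sup_right (Subgroup.mem_zpowers x)))

theorem normal_of_le_abelian_of_inv {A B : Subgroup G}
    (hAc : ∀ a ∈ A, ∀ b ∈ A, a * b = b * a) (hBA : B ≤ A) (x : G)
    (htop : A ⊔ Subgroup.zpowers x = ⊤) (hx : ∀ b ∈ B, x * b * x⁻¹ ∈ B) : B.Normal := by
  rw [← Subgroup.normalizer_eq_top_iff, eq_top_iff, ← htop, sup_le_iff, Subgroup.zpowers_le]
  constructor
  · intro a ha
    rw [Subgroup.mem_normalizer_iff]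
    intro h
    constructor
    · intro hh
      have : a * h * a⁻¹ = h := by rw [hAc a ha h (hBA hh), mul_inv_cancel_right]
      rw [this]; exact hh
    · intro hh
      have hA' : h ∈ A := by
        have : h = a⁻¹ * (a * h * a⁻¹) * a := by group
        rw [this]; exact A.mul_mem (A.mul_mem (A.inv_mem ha) (hBA hh)) ha
      have : a * h * a⁻¹ = h := by rw [hAc a ha h hA', mul_inv_cancel_right]
      rw [this] at hh; exact hh
  · rw [Subgroup.mem_normalizer_iff]
    have hk : ∀ k : ℕ, ∀ b ∈ B, x ^ k * b * (x ^ k)⁻¹ ∈ B := by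
      intro k
      induction k with
      | zero => intro b hb; simpa using hb
      | succ k ih =>
        intro b hb
        have h1 := hx _ (ih b hb)
        have h2 : x * (x ^ k * b * (x ^ k)⁻¹) * x⁻¹ = x ^ (k + 1) * b * (x ^ (k + 1))⁻¹ := by
          rw [pow_succ']; group
        rw [h2] at h1; exact h1
    intro h
    constructor
    · exact hx h
    · intro hh
      have hxinv : x⁻¹ = x ^ (orderOf x - 1) := by
        apply inv_eq_of_mul_eq_one_right
        rw [← pow_succ', Nat.sub_add_cancel (orderOf_pos x), pow_orderOf_eq_one]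
      have h1 := hk (orderOf x - 1) _ hh
      rw [← hxinv] at h1
      have h2 : x⁻¹ * (x * h * x⁻¹) * x⁻¹⁻¹ = h := by group
      rw [h2] at h1; exact h1

/-- In a non-abelian group, an element outside an abelian minimal normal subgroup of prime index
acts on it without nontrivial fixed points. -/
theorem fpf_of_minimal_normal (hna : ¬ IsMulCommutative G) (A : Subgroup G) [A.Normal]
    (hAc : ∀ a ∈ A, ∀ b ∈ A, a * b = b * a) {p : ℕ} (hp : p.Prime) (hidx : A.index = p)
    (hmin : ∀ B : Subgroup G, B.Normal → B ≤ A → B = ⊥ ∨ B = A) (x : G) (hx : x ∉ A) (a : G)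
    (ha : a ∈ A) (hfix : x * a * x⁻¹ = a) : a = 1 := by
  have htop := sup_zpowers_eq_top_of_index_prime hp A hidx x hx
  have hBn : (A ⊓ Subgroup.centralizer {x}).Normal := by
    apply normal_of_le_abelian_of_inv hAc inf_le_left x htop
    intro b hb
    have hb2 : x * b = b * x := (Subgroup.mem_centralizer_iff.mp hb.2) x rfl
    have : x * b * x⁻¹ = b := by rw [hb2, mul_inv_cancel_right]
    rw [this]; exact hb
  rcases hmin _ hBn inf_le_left with h | h
  · have h1 : a ∈ A ⊓ Subgroup.centralizer {x} := Subgroup.mem_inf.mpr ⟨ha, by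
      rw [Subgroup.mem_centralizer_iff]
      intro y hy
      rw [Set.mem_singleton_iff] at hy
      subst hy
      calc y * a = (y * a * y⁻¹) * y := by group
        _ = a * y := by rw [hfix]⟩
    rw [h, Subgroup.mem_bot] at h1
    exact h1
  · exfalso
    apply hna
    have hAx : ∀ b ∈ A, x * b = b * x := by
      intro b hb
      have h1 : b ∈ A ⊓ Subgroup.centralizer {x} := by rw [h]; exact hb
      exact (Subgroup.mem_centralizer_iff.mp h1.2) x rfl
    have key : ∀ z : G, (∀ b ∈ A, z * b = b * z) → z * x = x * z → z ∈ Subgroup.center G := by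
      intro z hz1 hz2
      have h1 : Subgroup.centralizer {z} = ⊤ := by
        rw [eq_top_iff, ← htop, sup_le_iff, Subgroup.zpowers_le]
        constructor
        · intro b hb
          rw [Subgroup.mem_centralizer_iff]
          intro y hy
          rw [Set.mem_singleton_iff] at hy
          subst hy
          exact hz1 b hb
        · rw [Subgroup.mem_centralizer_iff]
          intro y hy
          rw [Set.mem_singleton_iff] at hy
          subst hy
          exact hz2
      rw [Subgroup.mem_center_iff]
      intro g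
      have hg : g ∈ Subgroup.centralizer {z} := by rw [h1]; trivial
      exact ((Subgroup.mem_centralizer_iff.mp hg) z rfl).symm
    have hcen : Subgroup.center G = ⊤ := by
      rw [eq_top_iff, ← htop, sup_le_iff, Subgroup.zpowers_le]
      constructor
      · intro b hb
        exact key b (fun c hc => hAc b hb c hc) (hAx b hb).symm
      · exact key x hAx rfl
    exact ⟨⟨fun g h => Subgroup.mem_center_iff.mp (hcen ▸ Subgroup.mem_top h) g⟩⟩

/-- An elementary abelian minimal normal `q`-subgroup of prime index `p ≠ q` in a non-abelian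
group has order `q ^ e`, with `e` the multiplicative order of `q` modulo `p`. -/
theorem card_eq_of_minimal_normal_index_prime {p q : ℕ} [Fact p.Prime] (hq : q.Prime)
    (hna : ¬ IsMulCommutative G) (A : Subgroup G) [hAn : A.Normal]
    (hAc : ∀ a ∈ A, ∀ b ∈ A, a * b = b * a) (hAq : ∀ a ∈ A, a ^ q = 1) (hidx : A.index = p)
    (hmin : ∀ B : Subgroup G, B.Normal → B ≤ A → B = ⊥ ∨ B = A) :
    Nat.card ↥A = q ^ orderOf (q : ZMod p) := by
  classical
  have hp : p.Prime := Fact.out
  haveI : Fact q.Prime := ⟨hq⟩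
  have hA0 : A ≠ ⊥ := by
    intro h
    apply hna
    rw [h, Subgroup.index_bot] at hidx
    haveI : IsCyclic G := isCyclic_of_prime_card hidx
    exact IsCyclic.isMulCommutative
  have hAtop : A ≠ ⊤ := by
    intro h
    rw [h, Subgroup.index_top] at hidx
    exact hp.one_lt.ne hidx
  obtain ⟨x, hx⟩ : ∃ x, x ∉ A := by
    by_contra hcon
    push Not at hcon
    exact hAtop (eq_top_iff.mpr fun g _ => hcon g)
  have htop := sup_zpowers_eq_top_of_index_prime hp A hidx x hx
  have hfpf := fpf_of_minimal_normal hna A hAc hp hidx hmin x hx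
  have hAp : IsPGroup q A := by
    intro a
    exact ⟨1, by rw [pow_one]; exact Subtype.ext (hAq a a.2)⟩
  obtain ⟨d, hd⟩ := IsPGroup.iff_card.mp hAp
  have hd0 : d ≠ 0 := by
    rintro rfl
    rw [pow_zero] at hd
    exact hA0 (Subgroup.card_eq_one.mp hd)
  have hxp : x ^ p ∈ A := by rw [← hidx]; exact Subgroup.pow_index_mem A x
  have hconj1 : (MulAut.conjNormal (x ^ p) : MulAut A) = 1 := by
    ext a
    rw [MulAut.conjNormal_apply, MulAut.one_apply]
    have := hAc _ hxp a a.2
    rw [this, mul_inv_cancel_right]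
  have hmod : q ^ d ≡ 1 [MOD p] := by
    haveI : Fintype A := Fintype.ofFinite A
    have hσp : (MulAut.toPerm A (MulAut.conjNormal x)) ^ p ^ 1 = 1 := by
      rw [pow_one, ← map_pow, ← map_pow, hconj1, map_one]
    have h1 := Equiv.Perm.card_compl_support_modEq hσp
    have h2 : (MulAut.toPerm A (MulAut.conjNormal x)).supportᶜ = {1} := by
      ext a
      rw [Finset.mem_compl, Equiv.Perm.mem_support, not_not, Finset.mem_singleton]
      constructor
      · intro h
        have h3 : x * (a : G) * x⁻¹ = a := by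
          have h4 := congrArg Subtype.val h
          rw [← MulAut.conjNormal_apply]
          exact h4
        exact Subtype.ext (hfpf a a.2 h3)
      · rintro rfl
        exact map_one (MulAut.conjNormal x : MulAut A)
    rw [h2, Finset.card_singleton, ← Nat.card_eq_fintype_card, hd] at h1
    exact h1.symm
  have hqd : (q : ZMod p) ^ d = 1 := by
    have h1 := (ZMod.natCast_eq_natCast_iff (q ^ d) 1 p).mpr hmod
    push_cast at h1
    exact h1
  have hed : orderOf (q : ZMod p) ∣ d := orderOf_dvd_of_pow_eq_one hqd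
  have he0 : orderOf (q : ZMod p) ≠ 0 := by
    intro h
    rw [h, zero_dvd_iff] at hed
    exact hd0 hed
  have hqe : ∃ k : ℕ, q ^ orderOf (q : ZMod p) = 1 + p * k := by
    have h1 : ((q ^ orderOf (q : ZMod p) : ℕ) : ZMod p) = ((1 : ℕ) : ZMod p) := by
      push_cast
      exact pow_orderOf_eq_one _
    have h2 := (ZMod.natCast_eq_natCast_iff _ _ _).mp h1
    have h3 : 1 ≤ q ^ orderOf (q : ZMod p) := Nat.one_le_pow _ _ hq.pos
    obtain ⟨k, hk⟩ := (Nat.modEq_iff_dvd' h3).mp h2.symm
    exact ⟨k, by omega⟩
  letI : CommGroup A :=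
    { (inferInstance : Group A) with mul_comm := fun a b => Subtype.ext (hAc a a.2 b b.2) }
  haveI : Nontrivial (Additive A) := by
    obtain ⟨a, ha⟩ := Subgroup.ne_bot_iff_exists_ne_one.mp hA0
    exact ⟨⟨Additive.ofMul a, 0, fun h => ha h⟩⟩
  let Ψ : MulAut A →* AddMonoid.End (Additive A) :=
    { toFun := fun f => MonoidHom.toAdditive f.toMonoidHom
      map_one' := rfl
      map_mul' := fun f g => rfl }
  have hφ : Ψ (MulAut.conjNormal x) ^ p = 1 := by
    rw [← map_pow, ← map_pow, hconj1, map_one]
  have hM : ∀ m : Additive A, q • m = 0 := by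
    intro m
    change Additive.ofMul ((Additive.toMul m) ^ q) = Additive.ofMul 1
    exact congrArg Additive.ofMul (Subtype.ext (hAq _ (Additive.toMul m).2))
  have hirr : ∀ B : AddSubgroup (Additive A),
      (∀ b ∈ B, Ψ (MulAut.conjNormal x) b ∈ B) → B = ⊥ ∨ B = ⊤ := by
    intro B hB
    have hB'n : ({ carrier := {g | ∃ h : g ∈ A, Additive.ofMul (⟨g, h⟩ : A) ∈ B}
                   one_mem' := ⟨A.one_mem, B.zero_mem⟩
                   mul_mem' := by
                     rintro a b ⟨ha, ha'⟩ ⟨hb, hb'⟩
                     exact ⟨A.mul_mem ha hb, B.add_mem ha' hb'⟩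
                   inv_mem' := by
                     rintro a ⟨ha, ha'⟩
                     exact ⟨A.inv_mem ha, B.neg_mem ha'⟩ } : Subgroup G).Normal := by
      apply normal_of_le_abelian_of_inv hAc (by rintro g ⟨hg, -⟩; exact hg) x htop
      rintro b ⟨hb, hb'⟩
      exact ⟨hAn.conj_mem b hb x, hB _ hb'⟩
    rcases hmin _ hB'n (by rintro g ⟨hg, -⟩; exact hg) with h | h
    · left
      rw [eq_bot_iff]
      intro m hm
      have h1 : ((Additive.toMul m : A) : G) ∈
          ({ carrier := {g | ∃ h : g ∈ A, Additive.ofMul (⟨g, h⟩ : A) ∈ B}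
             one_mem' := ⟨A.one_mem, B.zero_mem⟩
             mul_mem' := by
               rintro a b ⟨ha, ha'⟩ ⟨hb, hb'⟩
               exact ⟨A.mul_mem ha hb, B.add_mem ha' hb'⟩
             inv_mem' := by
               rintro a ⟨ha, ha'⟩
               exact ⟨A.inv_mem ha, B.neg_mem ha'⟩ } : Subgroup G) :=
        ⟨(Additive.toMul m).2, hm⟩
      rw [h, Subgroup.mem_bot] at h1
      rw [AddSubgroup.mem_bot]
      exact congrArg Additive.ofMul (Subtype.ext h1 : Additive.toMul m = 1)
    · right
      rw [eq_top_iff]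
      intro m _
      have h1 : ((Additive.toMul m : A) : G) ∈
          ({ carrier := {g | ∃ h : g ∈ A, Additive.ofMul (⟨g, h⟩ : A) ∈ B}
             one_mem' := ⟨A.one_mem, B.zero_mem⟩
             mul_mem' := by
               rintro a b ⟨ha, ha'⟩ ⟨hb, hb'⟩
               exact ⟨A.mul_mem ha hb, B.add_mem ha' hb'⟩
             inv_mem' := by
               rintro a ⟨ha, ha'⟩
               exact ⟨A.inv_mem ha, B.neg_mem ha'⟩ } : Subgroup G) := by
        rw [h]; exact (Additive.toMul m).2
      obtain ⟨_, h2⟩ := h1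
      exact h2
  have hle := irr_card_le q p (orderOf (q : ZMod p)) hM (Ψ (MulAut.conjNormal x)) hφ hqe he0 hirr
  have hle' : q ^ d ≤ q ^ orderOf (q : ZMod p) := by
    rw [← hd]
    exact hle
  have h1 : d ≤ orderOf (q : ZMod p) := (Nat.pow_le_pow_iff_right hq.one_lt).mp hle'
  have h2 : orderOf (q : ZMod p) ≤ d := Nat.le_of_dvd (Nat.pos_of_ne_zero hd0) hed
  rw [hd, le_antisymm h1 h2]

end MinNormal

end Cfsg.Agent.Lib.Helper6
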