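import Mathlib
import Cfsg.Agent.Lib.Helper6.Conj

set_option autoImplicit false

namespace Cfsg.Agent.Lib.Helper6

variable {G : Type*} [Group G]

/-- A `p`-subgroup is conjugate into any subgroup of index prime to `p`. -/
theorem exists_conj_le_of_not_dvd_index [Finite G] {p : ℕ} [Fact p.Prime] (R : Subgroup G)
    (hR : IsPGroup p R) (M : Subgroup G) (h : ¬ p ∣ M.index) :
    ∃ g : G, R.map (MulAut.conj g).toMonoidHom ≤ M := by
  have h' : ¬ p ∣ Nat.card (G ⧸ M) := h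
  obtain ⟨q, hq⟩ := hR.nonempty_fixed_point_of_prime_not_dvd_card (G ⧸ M) h'
  obtain ⟨g, rfl⟩ := QuotientGroup.mk_surjective q
  refine ⟨g⁻¹, ?_⟩
  intro y hy
  rw [mem_map_conj, inv_inv] at hy
  have h1 := hq ⟨g * y * g⁻¹, hy⟩
  have h2 : ((g * y * g⁻¹ * g : G) : G ⧸ M) = (g : G ⧸ M) := h1
  rw [QuotientGroup.eq] at h2
  have h3 := M.inv_mem h2
  have e : ((g * y * g⁻¹ * g)⁻¹ * g)⁻¹ = y := by group
  rwa [e] at h3

/-- A conjugate of a maximal subgroup is maximal. -/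
theorem isCoatom_map_conj (M : Subgroup G) (g : G) (hM : IsCoatom M) :
    IsCoatom (M.map (MulAut.conj g).toMonoidHom) :=
  ((MulEquiv.mapSubgroup (MulAut.conj g)).isCoatom_iff M).mpr hM

end Cfsg.Agent.Lib.Helper6
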