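import Mathlib
import Cfsg.Agent.Lib.Helper1.CLT
import Cfsg.Agent.Lib.Helper1.Basic
import Cfsg.Agent.Lib.Lead.Hall

set_option autoImplicit false

namespace Cfsg.Agent.Lib.Helper6

open scoped commutatorElement

/-- In a `p`-group, an element normalizing a subgroup of order `p` centralizes it. -/
theorem centralizes_of_normalizes_prime {G : Type*} [Group G] [Finite G] {p : ℕ} [Fact p.Prime]
    (hG : IsPGroup p G) (Z : Subgroup G) (hZ : Nat.card Z = p) (g : G)
    (hg : g ∈ Subgroup.normalizer (Z : Set G)) :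
    g ∈ Subgroup.centralizer (Z : Set G) := by
  have hp := (Fact.out : p.Prime)
  haveI : IsCyclic ↥Z := isCyclic_of_prime_card hZ
  have hcard : Nat.card (MulAut ↥Z) = p - 1 := by
    rw [IsCyclic.card_mulAut, hZ, Nat.totient_prime hp]
  have h1 : (Z.normalizerMonoidHom ⟨g, hg⟩) ^ (p - 1) = 1 := by
    rw [← hcard]; exact pow_card_eq_one'
  obtain ⟨k, hk⟩ := hG g
  have h2 : (Z.normalizerMonoidHom ⟨g, hg⟩) ^ (p ^ k) = 1 := by
    rw [← map_pow]
    have : (⟨g, hg⟩ : ↥(Subgroup.normalizer (Z : Set G))) ^ (p ^ k) = 1 :=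
      Subtype.ext (by rw [Subgroup.coe_pow]; exact hk)
    rw [this, map_one]
  have hcop : Nat.Coprime (p - 1) (p ^ k) := by
    apply Nat.Coprime.pow_right
    apply Nat.Coprime.symm
    rw [Nat.Prime.coprime_iff_not_dvd hp]
    intro h
    have h3 := hp.two_le
    have := Nat.le_of_dvd (by omega) h
    omega
  have h3 : orderOf (Z.normalizerMonoidHom ⟨g, hg⟩) = 1 :=
    Nat.eq_one_of_dvd_coprimes hcop (orderOf_dvd_of_pow_eq_one h1) (orderOf_dvd_of_pow_eq_one h2)
  have h4 : (⟨g, hg⟩ : ↥(Subgroup.normalizer (Z : Set G))) ∈ Z.normalizerMonoidHom.ker := by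
    rw [MonoidHom.mem_ker]; exact orderOf_eq_one_iff.mp h3
  rw [Subgroup.normalizerMonoidHom_ker, Subgroup.mem_subgroupOf] at h4
  exact h4

/-- If `A` is a normal subgroup of order `p ^ 2` of the finite `p`-group `G` then
`|G| ≤ p * |C_G(A)|`. -/
theorem card_le_of_normal_sq {G : Type*} [Group G] [Finite G] {p : ℕ} [Fact p.Prime]
    (hG : IsPGroup p G) (A : Subgroup G) [hAn : A.Normal] (hA : Nat.card A = p ^ 2) :
    Nat.card G ≤ p * Nat.card (Subgroup.centralizer (A : Set G)) := by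
  classical
  have hp := (Fact.out : p.Prime)
  have hA1 : A ≠ ⊥ := by
    intro h
    rw [h, Subgroup.card_bot] at hA
    have := hp.one_lt
    nlinarith
  obtain ⟨b, hbA, hb1, hbc⟩ := Cfsg.Agent.Lib.Helper1.exists_central_of_normal_pgroup
    (⊤ : Subgroup G) A (hG.to_subgroup ⊤) le_top hA1
  obtain ⟨k, hk⟩ := (IsPGroup.iff_orderOf.mp hG) b
  have hk0 : k ≠ 0 := by
    rintro rfl
    rw [pow_zero, orderOf_eq_one_iff] at hk
    exact hb1 hk
  obtain ⟨j, rfl⟩ : ∃ j, k = j + 1 := ⟨k - 1, by omega⟩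
  set z := b ^ (p ^ j) with hz
  have hz1 : z ≠ 1 := by
    apply pow_ne_one_of_lt_orderOf (pow_pos hp.pos j).ne'
    rw [hk]
    exact Nat.pow_lt_pow_right hp.one_lt (Nat.lt_succ_self j)
  have hzp : z ^ p = 1 := by
    rw [hz, ← pow_mul, ← pow_succ, ← hk, pow_orderOf_eq_one]
  have hzo : orderOf z = p := orderOf_eq_prime hzp hz1
  have hzA : z ∈ A := pow_mem hbA _
  have hzc : ∀ g : G, g * z = z * g := by
    intro g
    have : Commute g b := hbc g (Subgroup.mem_top g)
    exact (this.pow_right _).eq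
  set Z₀ := Subgroup.zpowers z with hZ₀
  have hZ₀card : Nat.card Z₀ = p := by rw [hZ₀, Nat.card_zpowers, hzo]
  have hZ₀A : Z₀ ≤ A := by rw [hZ₀, Subgroup.zpowers_le]; exact hzA
  have hZc : ∀ c ∈ Z₀, ∀ g : G, g * c = c * g := by
    intro c hc g
    obtain ⟨i, rfl⟩ := Subgroup.mem_zpowers_iff.mp hc
    exact ((show Commute g z from hzc g).zpow_right i).eq
  haveI hZ₀n : Z₀.Normal := by
    constructor
    intro n hn g
    have : g * n * g⁻¹ = n := by rw [hZc n hn g, mul_inv_cancel_right]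
    rw [this]; exact hn
  obtain ⟨a₀, ha₀A, ha₀Z⟩ : ∃ a₀ ∈ A, a₀ ∉ Z₀ := by
    by_contra h
    push Not at h
    have h1 := Subgroup.card_le_of_le (show A ≤ Z₀ from h)
    rw [hA, hZ₀card] at h1
    have := hp.one_lt
    nlinarith
  have hcomm : ∀ g : G, ⁅g, a₀⁆ ∈ Z₀ := by
    intro g
    set A' := A.map (QuotientGroup.mk' Z₀) with hA'
    have hcA' : Nat.card A' = p := by
      have h1 := Cfsg.Agent.Lib.Lead.card_comap_mk' Z₀ A'
      rw [hA', Subgroup.comap_map_eq_self (by rw [QuotientGroup.ker_mk']; exact hZ₀A), hA, hZ₀card,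
        sq] at h1
      exact (Nat.eq_of_mul_eq_mul_right hp.pos h1).symm
    haveI : A'.Normal := hAn.map _ (QuotientGroup.mk'_surjective Z₀)
    have hQ : IsPGroup p (G ⧸ Z₀) := hG.to_quotient Z₀
    have h2 := centralizes_of_normalizes_prime hQ A' hcA' (QuotientGroup.mk g)
      (by rw [Subgroup.normalizer_eq_top]; exact Subgroup.mem_top _)
    have h3 := (Subgroup.mem_centralizer_iff.mp h2) (QuotientGroup.mk a₀)
      (Subgroup.mem_map_of_mem _ ha₀A)
    rw [← QuotientGroup.eq_one_iff, commutatorElement_def, QuotientGroup.mk_mul, QuotientGroup.mk_mul,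
      QuotientGroup.mk_mul, QuotientGroup.mk_inv, QuotientGroup.mk_inv, ← h3]
    group
  have hmul : ∀ g g' : G, ⁅g * g', a₀⁆ = ⁅g, a₀⁆ * ⁅g', a₀⁆ := by
    intro g g'
    have e : ⁅g * g', a₀⁆ = g * ⁅g', a₀⁆ * g⁻¹ * ⁅g, a₀⁆ := by
      simp only [commutatorElement_def]; group
    rw [e, hZc _ (hcomm g') g, mul_inv_cancel_right]
    exact (hZc _ (hcomm g') _).symm
  let ψ : G →* ↥Z₀ := { toFun := fun g => ⟨⁅g, a₀⁆, hcomm g⟩, map_one' := Subtype.ext (by simp), map_mul' := fun g g' => Subtype.ext (hmul g g') }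
  have hsup : A ≤ Z₀ ⊔ Subgroup.zpowers a₀ := by
    have hle : Z₀ ⊔ Subgroup.zpowers a₀ ≤ A := sup_le hZ₀A (by rw [Subgroup.zpowers_le]; exact ha₀A)
    have hdvd : Nat.card ↥(Z₀ ⊔ Subgroup.zpowers a₀) ∣ p ^ 2 := hA ▸ Subgroup.card_dvd_of_le hle
    obtain ⟨i, hi, hci⟩ := (Nat.dvd_prime_pow hp).mp hdvd
    have hlt : Nat.card Z₀ < Nat.card ↥(Z₀ ⊔ Subgroup.zpowers a₀) := by
      by_contra hge
      push Not at hge
      have h := Subgroup.eq_of_le_of_card_ge (le_sup_left : Z₀ ≤ Z₀ ⊔ Subgroup.zpowers a₀) hge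
      apply ha₀Z
      rw [h]
      exact Subgroup.mem_sup_right (Subgroup.mem_zpowers a₀)
    rw [hZ₀card, hci] at hlt
    have hi1 : 1 < i := by
      by_contra hcon
      have : i ≤ 1 := by omega
      have h5 := Nat.pow_le_pow_right hp.pos this
      rw [pow_one] at h5
      omega
    have hi2 : i = 2 := by omega
    have : Z₀ ⊔ Subgroup.zpowers a₀ = A := by
      apply Subgroup.eq_of_le_of_card_ge hle
      rw [hci, hi2, hA]
    exact this.ge
  have hker : ψ.ker ≤ Subgroup.centralizer (A : Set G) := by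
    intro g hg
    rw [MonoidHom.mem_ker] at hg
    have hg' : ⁅g, a₀⁆ = 1 := congrArg Subtype.val hg
    rw [commutatorElement_eq_one_iff_mul_comm] at hg'
    have hle : Z₀ ⊔ Subgroup.zpowers a₀ ≤ Subgroup.centralizer ({g} : Set G) := by
      apply sup_le
      · intro c hc
        rw [Subgroup.mem_centralizer_singleton_iff]
        exact (hZc c hc g).symm
      · rw [Subgroup.zpowers_le, Subgroup.mem_centralizer_singleton_iff]
        exact hg'.symm
    rw [Subgroup.mem_centralizer_iff]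
    intro a ha
    have := hle (hsup ha)
    rw [Subgroup.mem_centralizer_singleton_iff] at this
    exact this
  have h1 := Subgroup.card_mul_index ψ.ker
  rw [Subgroup.index_ker] at h1
  have h2 : Nat.card ψ.range ≤ p := by
    rw [← hZ₀card]
    exact Subgroup.card_le_card_group ψ.range
  have h3 := Subgroup.card_le_of_le hker
  calc Nat.card G = Nat.card ψ.ker * Nat.card ψ.range := h1.symm
    _ ≤ Nat.card (Subgroup.centralizer (A : Set G)) * p := Nat.mul_le_mul h3 h2
    _ = p * Nat.card (Subgroup.centralizer (A : Set G)) := mul_comm _ _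

end Cfsg.Agent.Lib.Helper6
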