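import Mathlib
import Cfsg.Agent.S0029
import Cfsg.Agent.Lib.Helper7.ElemAbCount
import Cfsg.Agent.Lib.Helper3.HallHigman
import Cfsg.Agent.Lib.Helper1.Basic
import Cfsg.Agent.Lib.Helper6.Conj

set_option autoImplicit false

namespace Cfsg.Agent.Lib.Helper6

/-- In a `p`-subgroup `P`, a subgroup of order `p ^ j` lies in a subgroup of `P` of order `p ^ m`
whenever `j ≤ m` and `p ^ m` divides `|P|`. -/
theorem exists_le_card_pow {X : Type*} [Group X] [Finite X] {p : ℕ} [Fact p.Prime]
    (P H : Subgroup X) (hHP : H ≤ P) (j m : ℕ) (hH : Nat.card H = p ^ j) (hjm : j ≤ m)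
    (hdvd : p ^ m ∣ Nat.card P) : ∃ K : Subgroup X, H ≤ K ∧ K ≤ P ∧ Nat.card K = p ^ m := by
  have h1 : Nat.card (H.subgroupOf P) = p ^ j := by
    rw [Nat.card_congr (Subgroup.subgroupOfEquivOfLe hHP).toEquiv, hH]
  obtain ⟨K', hK', hHK'⟩ := Sylow.exists_subgroup_card_pow_prime_le p hdvd (H.subgroupOf P) h1 hjm
  refine ⟨K'.map P.subtype, ?_, Subgroup.map_subtype_le K', ?_⟩
  · intro h hh
    exact ⟨⟨h, hHP hh⟩, hHK' (Subgroup.mem_subgroupOf.mpr hh), rfl⟩
  · rw [Subgroup.card_map_of_injective (Subgroup.subtype_injective P), hK']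

/-- An odd order group normalizing a `2`-group `T` and all its subgroups of index `2`
centralizes `T`. -/
theorem centralizes_of_index_two_invariant {X : Type*} [Group X] [Finite X] (A T : Subgroup X)
    (hT : IsPGroup 2 T) (hA : Odd (Nat.card A)) (hAT : A ≤ Subgroup.normalizer (T : Set X))
    (hinv : ∀ M : Subgroup X, M ≤ T → Nat.card T = 2 * Nat.card M →
      A ≤ Subgroup.normalizer (M : Set X)) : A ≤ Subgroup.centralizer (T : Set X) := by
  haveI : Fact (Nat.Prime 2) := ⟨Nat.prime_two⟩
  apply Cfsg.Agent.S0029.result A T hAT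
  · obtain ⟨j, hj⟩ := IsPGroup.iff_card.mp (hT.to_subgroup (frattini ↥T))
    rw [hj]
    apply Nat.Coprime.pow_right
    apply Nat.Coprime.symm
    rw [Nat.Prime.coprime_iff_not_dvd Nat.prime_two]
    exact hA.not_two_dvd_nat
  · intro a ha t ht
    have hat : a * t * a⁻¹ ∈ T := (Subgroup.mem_normalizer_iff.mp (hAT ha) t).mp ht
    have hc : a * t * a⁻¹ * t⁻¹ ∈ T := T.mul_mem hat (T.inv_mem ht)
    refine ⟨⟨_, hc⟩, ?_, rfl⟩
    rw [SetLike.mem_coe, Cfsg.Agent.Lib.Helper7.mem_frattini_iff]
    intro M' hM'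
    obtain ⟨hn, hidx⟩ := Cfsg.Agent.Lib.Helper7.index_coatom_of_pGroup (p := 2) hT M' hM'
    have hMT : M'.map T.subtype ≤ T := Subgroup.map_subtype_le M'
    have hcard : Nat.card T = 2 * Nat.card (M'.map T.subtype) := by
      rw [Subgroup.card_map_of_injective (Subgroup.subtype_injective T), ← hidx,
        mul_comm, Subgroup.card_mul_index]
    have hAM := hinv _ hMT hcard
    have key : ∀ (y : X) (hy : y ∈ T), (⟨y, hy⟩ : ↥T) ∈ M' ↔ y ∈ M'.map T.subtype := by
      intro y hy
      constructor
      · intro h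
        exact ⟨⟨y, hy⟩, h, rfl⟩
      · rintro ⟨z, hz, hzy⟩
        have : z = ⟨y, hy⟩ := Subtype.ext hzy
        rw [← this]
        exact hz
    have h2 := Subgroup.mul_mem_iff_of_index_two hidx (a := (⟨a * t * a⁻¹, hat⟩ : ↥T))
      (b := (⟨t, ht⟩ : ↥T)⁻¹)
    have h3 : (⟨a * t * a⁻¹ * t⁻¹, hc⟩ : ↥T) = ⟨a * t * a⁻¹, hat⟩ * (⟨t, ht⟩ : ↥T)⁻¹ := rfl
    rw [h3, h2, inv_mem_iff, key, key]
    exact (Subgroup.mem_normalizer_iff.mp (hAM ha) t).symm

/-- An odd order group normalizing a cyclic `2`-group centralizes it. -/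
theorem centralizes_cyclic_two_group {X : Type*} [Group X] [Finite X] (A C : Subgroup X)
    (hC : IsPGroup 2 C) (hcyc : IsCyclic C) (hA : Odd (Nat.card A))
    (hAC : A ≤ Subgroup.normalizer (C : Set X)) : A ≤ Subgroup.centralizer (C : Set X) := by
  classical
  apply centralizes_of_index_two_invariant A C hC hA hAC
  intro M hMC _ a ha
  apply Cfsg.Agent.Lib.Helper1.mem_normalizer_of_finite
  intro m hm
  have ham : a * m * a⁻¹ ∈ C := (Subgroup.mem_normalizer_iff.mp (hAC ha) m).mp (hMC hm)
  set μ := Nat.card M with hμ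
  have hμ0 : 0 < μ := Nat.card_pos
  haveI : Fintype ↥C := Fintype.ofFinite _
  let Sf : Finset ↥C := Finset.univ.filter (fun c => c ^ μ = 1)
  let Mf : Finset ↥C := Finset.univ.filter (fun c => (c : X) ∈ M)
  have hsub : Mf ⊆ Sf := by
    intro c hc
    have hcM : (c : X) ∈ M := (Finset.mem_filter.mp hc).2
    have h1 : (⟨(c : X), hcM⟩ : ↥M) ^ μ = 1 := pow_card_eq_one'
    have h2 : (c : X) ^ μ = 1 := congrArg Subtype.val h1
    exact Finset.mem_filter.mpr ⟨Finset.mem_univ _, Subtype.ext h2⟩
  have hMfcard : Mf.card = μ := by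
    have h1 : Nat.card (M.subgroupOf C) = μ :=
      Nat.card_congr (Subgroup.subgroupOfEquivOfLe hMC).toEquiv
    rw [← h1, Nat.card_eq_fintype_card, Fintype.card_subtype]
    rfl
  have hSfcard : Sf.card ≤ μ := IsCyclic.card_pow_eq_one_le hμ0
  have heq : Mf = Sf := Finset.eq_of_subset_of_card_le hsub (by rw [hMfcard]; exact hSfcard)
  have h3 : (⟨a * m * a⁻¹, ham⟩ : ↥C) ∈ Sf := by
    apply Finset.mem_filter.mpr
    refine ⟨Finset.mem_univ _, ?_⟩
    apply Subtype.ext
    show (a * m * a⁻¹) ^ μ = 1
    have h1 : (⟨m, hm⟩ : ↥M) ^ μ = 1 := pow_card_eq_one'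
    have h2 : m ^ μ = 1 := congrArg Subtype.val h1
    rw [conj_pow, h2, mul_one, mul_inv_cancel]
  rw [← heq] at h3
  exact (Finset.mem_filter.mp h3).2

/-- Let `P` be a `2`-group and `A` an odd order group normalizing it. If all subgroups of `P` of
some fixed order `|D|` with `1 < |D| < |P|` (and of order `4` if `|D| = 2`) are `A`-invariant,
then `A` centralizes `P`. -/
theorem odd_centralizes_two_group {X : Type*} [Group X] [Finite X] (P A D : Subgroup X)
    (hP : IsPGroup 2 P) (hA : Odd (Nat.card A))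
    (hAP : A ≤ Subgroup.normalizer (P : Set X)) (hDP : D ≤ P) (hD1 : 1 < Nat.card D)
    (hD2 : Nat.card D < Nat.card P)
    (hinv : ∀ E : Subgroup X, E ≤ P → (Nat.card E = Nat.card D ∨
      (Nat.card D = 2 ∧ Nat.card E = 4)) → A ≤ Subgroup.normalizer (E : Set X)) :
    A ≤ Subgroup.centralizer (P : Set X) := by
  classical
  haveI : Fact (Nat.Prime 2) := ⟨Nat.prime_two⟩
  obtain ⟨n, hn⟩ := IsPGroup.iff_card.mp hP
  obtain ⟨k, hk⟩ := IsPGroup.iff_card.mp (hP.to_le hDP)
  have hk1 : 1 ≤ k := by
    by_contra h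
    have : k = 0 := by omega
    rw [hk, this, pow_zero] at hD1
    omega
  have hkn : k < n := by
    rw [hk, hn] at hD2
    exact (Nat.pow_lt_pow_iff_right (by norm_num)).mp hD2
  have key : ∀ x ∈ P, x ^ 4 = 1 → ∀ a ∈ A, a * x = x * a := by
    intro x hx hx4 a ha
    have hord : orderOf x ∣ 2 ^ 2 := orderOf_dvd_of_pow_eq_one hx4
    obtain ⟨j, hj2, hj⟩ := (Nat.dvd_prime_pow Nat.prime_two).mp hord
    have hZP : Subgroup.zpowers x ≤ P := by
      rw [Subgroup.zpowers_le]
      exact hx
    have hZcard : Nat.card (Subgroup.zpowers x) = 2 ^ j := by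
      rw [Nat.card_zpowers, hj]
    have hfin : ∀ K : Subgroup X, x ∈ K → A ≤ Subgroup.centralizer (K : Set X) →
        a * x = x * a := by
      intro K hxK hAK
      have := Subgroup.mem_centralizer_iff.mp (hAK ha) x hxK
      exact this.symm
    by_cases hk1' : k = 1
    · by_cases hj0 : j = 0
      · rw [hj0, pow_zero, orderOf_eq_one_iff] at hj
        rw [hj, mul_one, one_mul]
      · have hAZ : A ≤ Subgroup.normalizer ((Subgroup.zpowers x : Subgroup X) : Set X) := by
          apply hinv _ hZP
          have hj12 : j = 1 ∨ j = 2 := by omega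
          rcases hj12 with h | h
          · left
            rw [hZcard, hk, h, hk1']
          · right
            refine ⟨by rw [hk, hk1', pow_one], by rw [hZcard, h]; norm_num⟩
        exact hfin _ (Subgroup.mem_zpowers x)
          (centralizes_cyclic_two_group A _ (hP.to_le hZP) inferInstance hA hAZ)
    · have hk2 : 2 ≤ k := by omega
      obtain ⟨K, hZK, hKP, hKcard⟩ := exists_le_card_pow P (Subgroup.zpowers x) hZP j k hZcard
        (by omega) (by rw [hn]; exact pow_dvd_pow 2 hkn.le)
      obtain ⟨T, hKT, hTP, hTcard⟩ := exists_le_card_pow P K hKP k (k + 1) hKcard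
        (by omega) (by rw [hn]; exact pow_dvd_pow 2 hkn)
      have hxK : x ∈ K := hZK (Subgroup.mem_zpowers x)
      have hinvT : ∀ M : Subgroup X, M ≤ T → Nat.card T = 2 * Nat.card M →
          A ≤ Subgroup.normalizer (M : Set X) := by
        intro M hMT hMcard
        apply hinv M (hMT.trans hTP)
        left
        rw [hTcard, pow_succ, mul_comm] at hMcard
        have : Nat.card M = 2 ^ k := (Nat.eq_of_mul_eq_mul_left (by norm_num) hMcard).symm
        rw [this, hk]
      by_cases hex : ∃ K' : Subgroup X, K' ≤ T ∧ Nat.card K' = 2 ^ k ∧ K' ≠ K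
      · obtain ⟨K', hK'T, hK'card, hne⟩ := hex
        have hsup : K ⊔ K' = T := by
          apply Subgroup.eq_of_le_of_card_ge (sup_le hKT hK'T)
          obtain ⟨i, hi⟩ := IsPGroup.iff_card.mp (hP.to_le ((sup_le hKT hK'T).trans hTP))
          rw [hTcard, hi]
          apply Nat.pow_le_pow_right (by norm_num)
          by_contra hlt
          have hik : i ≤ k := by omega
          have h1 : K ⊔ K' = K := by
            symm
            apply Subgroup.eq_of_le_of_card_ge le_sup_left
            rw [hi, hKcard]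
            exact Nat.pow_le_pow_right (by norm_num) hik
          have h2 : K' ≤ K := by
            rw [← h1]
            exact le_sup_right
          exact hne (Subgroup.eq_of_le_of_card_ge h2 (by rw [hK'card, hKcard]))
        have hAK : A ≤ Subgroup.normalizer (K : Set X) :=
          hinv K hKP (Or.inl (by rw [hKcard, hk]))
        have hAK' : A ≤ Subgroup.normalizer (K' : Set X) :=
          hinv K' (hK'T.trans hTP) (Or.inl (by rw [hK'card, hk]))
        have hAT : A ≤ Subgroup.normalizer (T : Set X) := by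
          intro b hb
          rw [← map_conj_eq_self_iff, ← hsup, Subgroup.map_sup,
            (map_conj_eq_self_iff K b).mpr (hAK hb), (map_conj_eq_self_iff K' b).mpr (hAK' hb)]
        exact hfin T (hKT hxK)
          (centralizes_of_index_two_invariant A T (hP.to_le hTP) hA hAT hinvT)
      · push Not at hex
        have hKT' : K < T := by
          apply lt_of_le_of_ne hKT
          intro h
          rw [h, hTcard] at hKcard
          have := Nat.pow_lt_pow_right (by norm_num : 1 < 2) (by omega : k < k + 1)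
          omega
        obtain ⟨y, hyT, hyK⟩ := SetLike.exists_of_lt hKT'
        have hyZ : Subgroup.zpowers y = T := by
          have hle : Subgroup.zpowers y ≤ T := by
            rw [Subgroup.zpowers_le]
            exact hyT
          by_contra hne
          obtain ⟨i, hi⟩ := IsPGroup.iff_card.mp (hP.to_le (hle.trans hTP))
          have hik : i ≤ k := by
            by_contra hlt
            apply hne
            apply Subgroup.eq_of_le_of_card_ge hle
            rw [hTcard, hi]
            exact Nat.pow_le_pow_right (by norm_num) (by omega)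
          obtain ⟨K'', hZK'', hK''T, hK''card⟩ := exists_le_card_pow T (Subgroup.zpowers y) hle i k
            hi hik (by rw [hTcard]; exact pow_dvd_pow 2 (by omega))
          have := hex K'' hK''T hK''card
          rw [this] at hZK''
          exact hyK (hZK'' (Subgroup.mem_zpowers y))
        have hKZ : K ≤ Subgroup.zpowers y := by rw [hyZ]; exact hKT
        haveI : IsCyclic ↥(K.subgroupOf (Subgroup.zpowers y)) := inferInstance
        have hKcyc : IsCyclic ↥K :=
          isCyclic_of_surjective (Subgroup.subgroupOfEquivOfLe hKZ).toMonoidHom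
            (Subgroup.subgroupOfEquivOfLe hKZ).surjective
        have hAK : A ≤ Subgroup.normalizer (K : Set X) :=
          hinv K hKP (Or.inl (by rw [hKcard, hk]))
        exact hfin K hxK (centralizes_cyclic_two_group A K (hP.to_le hKP) hKcyc hA hAK)
  intro a ha
  by_contra hcon
  have hnc : ¬ ∀ x ∈ P, a * x * a⁻¹ = x := by
    intro h
    apply hcon
    rw [Subgroup.mem_centralizer_iff]
    intro x hx
    have h1 := h x hx
    calc x * a = (a * x * a⁻¹) * a := by rw [h1]
      _ = a * x := by group
  have hcop : (orderOf a).Coprime 2 := by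
    have h1 : orderOf a ∣ Nat.card A := Subgroup.orderOf_dvd_natCard A ha
    apply Nat.Coprime.symm
    rw [Nat.Prime.coprime_iff_not_dvd Nat.prime_two]
    intro h2
    exact hA.not_two_dvd_nat (h2.trans h1)
  obtain ⟨R, hRP, -, hncR, hexp⟩ :=
    Cfsg.Agent.Lib.Helper3.exists_small_exponent_not_centralized (p := 2) P hP a
      (fun x hx => (Subgroup.mem_normalizer_iff.mp (hAP ha) x).mp hx) hcop hnc
  apply hncR
  intro r hr
  have hr4 : r ^ 4 = 1 := by
    rcases hexp r hr with h | ⟨-, h⟩
    · have : r ^ 4 = (r ^ 2) ^ 2 := by rw [← pow_mul]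
      rw [this, h, one_pow]
    · exact h
  have h1 := key r (hRP hr) hr4 a ha
  rw [h1]
  group

end Cfsg.Agent.Lib.Helper6
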