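import Mathlib
import Cfsg.Agent.Lib.Helper6.Derangement

set_option autoImplicit false

namespace Cfsg.Agent.Lib.Helper6

/-- Every element of a finite group is a product of commuting powers of itself, one of `p`-power
order and one of order prime to `p`. -/
theorem exists_p_decomp {G : Type*} [Group G] [Finite G] (p : ℕ) [Fact p.Prime] (g : G) :
    ∃ y z : G, g = y * z ∧ Commute y z ∧ (∃ k : ℕ, orderOf y = p ^ k) ∧
      (orderOf z).Coprime p ∧ y ∈ Subgroup.zpowers g ∧ z ∈ Subgroup.zpowers g := by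
  have hp : p.Prime := Fact.out
  set n := orderOf g with hn
  have hn0 : n ≠ 0 := (orderOf_pos g).ne'
  set pk := p ^ n.factorization p with hpk
  set m := n / pk with hm
  have hmul : pk * m = n := Nat.ordProj_mul_ordCompl_eq_self n p
  have hcop : Nat.Coprime p m := Nat.coprime_ordCompl hp hn0
  have hcop2 : Nat.Coprime pk m := Nat.Coprime.pow_left _ hcop
  have hbez : IsCoprime (pk : ℤ) (m : ℤ) := Nat.isCoprime_iff_coprime.mpr hcop2
  obtain ⟨a, b, hab⟩ := hbez
  refine ⟨g ^ (b * (m : ℤ)), g ^ (a * (pk : ℤ)), ?_, ?_, ?_, ?_, ⟨_, rfl⟩, ⟨_, rfl⟩⟩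
  · rw [← zpow_add]
    have : b * (m : ℤ) + a * (pk : ℤ) = 1 := by rw [← hab]; ring
    rw [this, zpow_one]
  · exact (Commute.refl g).zpow_zpow _ _
  · have h1 : (g ^ (b * (m : ℤ))) ^ pk = 1 := by
      rw [← zpow_natCast, ← zpow_mul]
      have e : b * (m : ℤ) * (pk : ℤ) = (n : ℤ) * b := by
        rw [← hmul]
        push_cast
        ring
      rw [e, zpow_mul, zpow_natCast, hn, pow_orderOf_eq_one, one_zpow]
    have h2 : orderOf (g ^ (b * (m : ℤ))) ∣ p ^ n.factorization p := orderOf_dvd_of_pow_eq_one h1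
    obtain ⟨j, -, hj⟩ := (Nat.dvd_prime_pow hp).mp h2
    exact ⟨j, hj⟩
  · have h1 : (g ^ (a * (pk : ℤ))) ^ m = 1 := by
      rw [← zpow_natCast, ← zpow_mul]
      have e : a * (pk : ℤ) * (m : ℤ) = (n : ℤ) * a := by
        rw [← hmul]
        push_cast
        ring
      rw [e, zpow_mul, zpow_natCast, hn, pow_orderOf_eq_one, one_zpow]
    have h2 : orderOf (g ^ (a * (pk : ℤ))) ∣ m := orderOf_dvd_of_pow_eq_one h1
    exact Nat.Coprime.coprime_dvd_left h2 hcop.symm

/-- A finite group is not the union of the conjugates of a proper subgroup. -/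
theorem eq_top_of_conj_cover {G : Type*} [Group G] [Finite G] (M : Subgroup G)
    (h : ∀ g : G, ∃ a : G, a⁻¹ * g * a ∈ M) : M = ⊤ := by
  have hD : ∀ g : G, (∀ ω : G ⧸ M, g • ω ≠ ω) → g ∈ (⊥ : Subgroup G) := by
    intro g hg
    exfalso
    obtain ⟨a, ha⟩ := h g
    apply hg (a : G ⧸ M)
    rw [MulAction.Quotient.smul_mk, QuotientGroup.eq]
    have e : (g • a)⁻¹ * a = (a⁻¹ * g * a)⁻¹ := by
      rw [smul_eq_mul]
      group
    rw [e]
    exact M.inv_mem ha
  have htr := der_pretransitive (Ω := G ⧸ M) (⊥ : Subgroup G) hD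
  rw [eq_top_iff]
  intro g _
  obtain ⟨d, hd⟩ := htr.exists_smul_eq ((1 : G) : G ⧸ M) (g : G ⧸ M)
  have hd1 : (d : G) = 1 := Subgroup.mem_bot.mp d.2
  have h2 : ((d : G) • ((1 : G) : G ⧸ M)) = (g : G ⧸ M) := hd
  rw [hd1, one_smul] at h2
  have h3 := QuotientGroup.eq.mp h2
  rw [inv_one, one_mul] at h3
  exact h3

end Cfsg.Agent.Lib.Helper6
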