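import Mathlib
import Cfsg.Prelude.Def_Local
import Cfsg.Agent.Lib.Helper2.PComp
import Cfsg.Agent.Lib.Helper3.Frat
import Cfsg.Agent.Lib.Helper3.PPrimeCore
import Cfsg.Agent.Lib.Helper4.PCore
import Cfsg.Agent.Lib.Helper6.SylowSub

set_option autoImplicit false

namespace Cfsg.Agent.Lib.Helper6

/-- `O_{p',p}(G)` is a characteristic subgroup. -/
theorem pPrimePCore_characteristic (p : ℕ) (G : Type*) [Group G] :
    (Cfsg.pPrimePCore p G).Characteristic := by
  haveI := Cfsg.Agent.Lib.Helper2.pPrimeCore_characteristic' p G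
  unfold Cfsg.pPrimePCore
  exact Subgroup.Characteristic.comap_quotient_mk
    (Cfsg.Agent.Lib.Helper4.pCore_characteristic p _)

/-- In a finite `p`-soluble group of order divisible by `p`, the order of `O_{p',p}` is
divisible by `p`. -/
theorem dvd_card_pPrimePCore {H : Type*} [Group H] [Finite H] {p : ℕ} [Fact p.Prime]
    (hsolv : Cfsg.IsPSolvable p H) (hdiv : p ∣ Nat.card H) :
    p ∣ Nat.card (Cfsg.pPrimePCore p H) := by
  have hp : p.Prime := Fact.out
  obtain ⟨n, C, h0, hlast, hmono, hnorm, hfac⟩ := hsolv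
  have hex : ∃ i : Fin n, ¬ p ∣ Nat.card (C i.castSucc) ∧ p ∣ Nat.card (C i.succ) := by
    by_contra hne
    push Not at hne
    have hall : ∀ i : Fin (n + 1), ¬ p ∣ Nat.card (C i) := by
      intro i
      induction i using Fin.induction with
      | zero =>
        rw [h0, Subgroup.card_bot]
        exact fun h => hp.one_lt.ne' (Nat.dvd_one.mp h)
      | succ i ih => exact hne i ih
    apply hall (Fin.last n)
    rw [hlast, Subgroup.card_top]
    exact hdiv
  obtain ⟨i, hi1, hi2⟩ := hex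
  have hle : C i.castSucc ≤ C i.succ := hmono (Fin.castSucc_le_succ i)
  have hrel : Nat.card (C i.castSucc) * (C i.castSucc).relIndex (C i.succ) = Nat.card (C i.succ) :=
    card_mul_relIndex_of_le hle
  have hpow : ∃ m, (C i.castSucc).relIndex (C i.succ) = p ^ m := by
    rcases hfac i with h | h
    · exact h
    · exfalso
      rw [← hrel] at hi2
      rcases (Nat.Prime.dvd_mul hp).mp hi2 with h' | h'
      · exact hi1 h'
      · exact (Nat.Prime.coprime_iff_not_dvd hp).mp h.symm h'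
  obtain ⟨m, hm⟩ := hpow
  have hcop : (Nat.card (C i.castSucc)).Coprime p :=
    ((Nat.Prime.coprime_iff_not_dvd hp).mpr hi1).symm
  have hD : C i.castSucc ≤ Cfsg.pPrimeCore p H :=
    Cfsg.Agent.Lib.Helper3.le_pPrimeCore (hnorm _) hcop
  have hpowmem : ∀ x ∈ C i.succ, x ^ p ^ m ∈ C i.castSucc := by
    intro x hx
    haveI := hnorm i.castSucc
    haveI : ((C i.castSucc).subgroupOf (C i.succ)).Normal := Subgroup.Normal.subgroupOf inferInstance _
    have h1 := Subgroup.pow_index_mem ((C i.castSucc).subgroupOf (C i.succ)) (⟨x, hx⟩ : ↥(C i.succ))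
    have h2 : ((C i.castSucc).subgroupOf (C i.succ)).index = p ^ m := hm
    rw [h2] at h1
    exact h1
  have hsub : C i.succ ≤ Cfsg.pPrimePCore p H := by
    unfold Cfsg.pPrimePCore
    rw [← Subgroup.map_le_iff_le_comap]
    apply Cfsg.Agent.Lib.Helper4.le_pCore
    · exact Subgroup.Normal.map (hnorm _) _ (QuotientGroup.mk'_surjective _)
    · rintro ⟨y, hy⟩
      obtain ⟨x, hx, rfl⟩ := hy
      refine ⟨m, Subtype.ext ?_⟩
      show (QuotientGroup.mk' (Cfsg.pPrimeCore p H) x) ^ p ^ m = 1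
      rw [← map_pow, QuotientGroup.mk'_apply, QuotientGroup.eq_one_iff]
      exact hD (hpowmem x hx)
  exact hi2.trans (Subgroup.card_dvd_of_le hsub)

/-- Every element of `O_{p',p}(H)` is a product of an element of `O_{p'}(H)` and an element of
a given Sylow `p`-subgroup. -/
theorem pPrimePCore_decomp {H : Type*} [Group H] [Finite H] {p : ℕ} [Fact p.Prime]
    (P : Sylow p H) (l : H) (hl : l ∈ Cfsg.pPrimePCore p H) :
    ∃ d ∈ Cfsg.pPrimeCore p H, ∃ q ∈ (P : Subgroup H), l = d * q := by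
  have h1 := Cfsg.Agent.Lib.Helper3.pPrimePCore_le_sup P hl
  haveI : (Cfsg.pPrimeCore p H).Normal := Subgroup.sSup_normal _ (fun _ h => h.1)
  have h2 : l ∈ ((Cfsg.pPrimeCore p H ⊔ ((P : Subgroup H) ⊓ Cfsg.pPrimePCore p H) : Subgroup H) : Set H) := h1
  rw [Subgroup.normal_mul] at h2
  obtain ⟨d, hd, q, hq, rfl⟩ := Set.mem_mul.mp h2
  exact ⟨d, hd, q, hq.1, rfl⟩

end Cfsg.Agent.Lib.Helper6
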