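import Mathlib
import Cfsg.Agent.Lib.Helper1.Basic
import Cfsg.Agent.Lib.Helper2.FStar
import Cfsg.Agent.Lib.Helper6.Conj
import Cfsg.Agent.Lib.Helper6.SylowSub
import Cfsg.Agent.Lib.Helper6.InvSylow

set_option autoImplicit false

namespace Cfsg.Agent.Lib.Helper6

universe u

/-- `x` is a `π`-element: every prime divisor of its order lies in `π`. -/
def PiElt {G : Type*} [Monoid G] (π : Set ℕ) (x : G) : Prop :=
  ∀ p : ℕ, p.Prime → p ∣ orderOf x → p ∈ π

/-- `m` is a `π`-number. -/
def PiNum (π : Set ℕ) (m : ℕ) : Prop := ∀ p : ℕ, p.Prime → p ∣ m → p ∈ π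

theorem PiNum.mul {π : Set ℕ} {a b : ℕ} (ha : PiNum π a) (hb : PiNum π b) : PiNum π (a * b) := by
  intro p hp hd
  rcases (Nat.Prime.dvd_mul hp).1 hd with h | h
  · exact ha p hp h
  · exact hb p hp h

theorem PiNum.of_dvd {π : Set ℕ} {a b : ℕ} (hb : PiNum π b) (h : a ∣ b) : PiNum π a :=
  fun p hp hd => hb p hp (hd.trans h)

theorem piElt_of_pow_eq_one {G : Type*} [Monoid G] {π : Set ℕ} {x : G} {m : ℕ}
    (hm : PiNum π m) (h : x ^ m = 1) : PiElt π x :=
  fun p hp hd => hm p hp (hd.trans (orderOf_dvd_of_pow_eq_one h))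

theorem PiElt.piNum {G : Type*} [Monoid G] {π : Set ℕ} {x : G} (h : PiElt π x) :
    PiNum π (orderOf x) := h

theorem PiElt.map {G H : Type*} [Monoid G] [Monoid H] {π : Set ℕ} {x : G} (h : PiElt π x)
    (f : G →* H) : PiElt π (f x) :=
  fun p hp hd => h p hp (hd.trans (orderOf_map_dvd f x))

theorem PiElt.pow {G : Type*} [Monoid G] {π : Set ℕ} {x : G} (h : PiElt π x) (n : ℕ) :
    PiElt π (x ^ n) :=
  fun p hp hd => h p hp (hd.trans (orderOf_pow_dvd n))

theorem piElt_one {G : Type*} [Monoid G] {π : Set ℕ} : PiElt π (1 : G) := by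
  intro p hp hd
  rw [orderOf_one] at hd
  exact absurd (Nat.dvd_one.1 hd) hp.ne_one

theorem PiElt.inv {G : Type*} [Group G] {π : Set ℕ} {x : G} (h : PiElt π x) : PiElt π x⁻¹ := by
  intro p hp hd
  rw [orderOf_inv] at hd
  exact h p hp hd

theorem orderOf_conj_eq {G : Type*} [Group G] (g x : G) : orderOf (g * x * g⁻¹) = orderOf x := by
  have := MulEquiv.orderOf_eq (MulAut.conj g) x
  rwa [MulAut.conj_apply] at this

theorem PiElt.conj {G : Type*} [Group G] {π : Set ℕ} {x : G} (h : PiElt π x) (g : G) :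
    PiElt π (g * x * g⁻¹) := by
  intro p hp hd
  rw [orderOf_conj_eq] at hd
  exact h p hp hd

theorem piElt_of_pow {G : Type*} [Monoid G] {π : Set ℕ} (x : G) (a : ℕ) (ha : PiNum π a)
    (h : PiElt π (x ^ a)) : PiElt π x :=
  piElt_of_pow_eq_one (ha.mul h.piNum) (by rw [pow_mul]; exact pow_orderOf_eq_one _)

theorem eq_one_of_piElt_of_not {G : Type*} [Monoid G] {π : Set ℕ} {x : G} (h : PiElt π x)
    (h' : ∀ p : ℕ, p.Prime → p ∣ orderOf x → p ∉ π) : x = 1 := by
  rw [← orderOf_eq_one_iff]
  by_contra hne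
  obtain ⟨p, hp, hd⟩ := Nat.exists_prime_and_dvd hne
  exact h' p hp hd (h p hp hd)

theorem piNum_card_of_forall {H : Type*} [Group H] [Finite H] {π : Set ℕ}
    (h : ∀ x : H, PiElt π x) : PiNum π (Nat.card H) := by
  intro p hp hd
  have : Fact p.Prime := ⟨hp⟩
  obtain ⟨x, hx⟩ := exists_prime_orderOf_dvd_card' (G := H) p hd
  exact h x p hp (by rw [hx])

theorem piElt_of_piNum_card {H : Type*} [Group H] [Finite H] {π : Set ℕ}
    (h : PiNum π (Nat.card H)) (x : H) : PiElt π x :=
  fun p hp hd => h p hp (hd.trans (orderOf_dvd_natCard x))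

theorem piElt_coe_iff {G : Type*} [Group G] {π : Set ℕ} {H : Subgroup G} (x : H) :
    PiElt π (x : G) ↔ PiElt π x := by
  unfold PiElt
  rw [Subgroup.orderOf_coe]

/-- Lifting `π`-elements through a quotient by a normal `π`-subgroup. -/
theorem piElt_of_quotient {G : Type*} [Group G] {π : Set ℕ} (N : Subgroup G) [N.Normal]
    (hN : ∀ x ∈ N, PiElt π x) (g : G) (h : PiElt π (QuotientGroup.mk' N g)) : PiElt π g := by
  apply piElt_of_pow g (orderOf (QuotientGroup.mk' N g)) h.piNum
  apply hN
  rw [← QuotientGroup.eq_one_iff]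
  show QuotientGroup.mk' N (g ^ orderOf (QuotientGroup.mk' N g)) = 1
  rw [map_pow]
  exact pow_orderOf_eq_one _

/-- If a subgroup contains every `π`-element of prime power order, it contains every
`π`-element. -/
theorem mem_of_piElt {G : Type*} [Group G] [Finite G] (π : Set ℕ) (C : Subgroup G)
    (hC : ∀ (y : G) (q v : ℕ), q.Prime → q ∈ π → orderOf y = q ^ v → y ∈ C) :
    ∀ n : ℕ, ∀ h : G, orderOf h = n → PiElt π h → h ∈ C := by
  intro n
  induction n using Nat.strong_induction_on with
  | _ n ih =>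
    intro h hn hpi
    by_cases h1 : n = 1
    · rw [h1, orderOf_eq_one_iff] at hn
      rw [hn]; exact one_mem _
    · have hnpos : 0 < n := by rw [← hn]; exact orderOf_pos h
      obtain ⟨q, hq, hqn⟩ := Nat.exists_prime_and_dvd h1
      obtain ⟨v, m, hqm, hnm⟩ := Nat.exists_eq_pow_mul_and_not_dvd hnpos.ne' q hq.ne_one
      have hv : v ≠ 0 := by
        intro hv0
        rw [hv0, pow_zero, one_mul] at hnm
        rw [hnm] at hqn
        exact hqm hqn
      have hmpos : 0 < m := by
        rcases Nat.eq_zero_or_pos m with h0 | h0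
        · rw [h0, mul_zero] at hnm; omega
        · exact h0
      have hqπ : q ∈ π := hpi q hq (by rw [hn]; exact hqn)
      have ho1 : orderOf (h ^ m) = q ^ v := by
        rw [orderOf_pow_of_dvd hmpos.ne' (by rw [hn, hnm]; exact dvd_mul_left _ _), hn, hnm]
        exact Nat.mul_div_cancel _ hmpos
      have hmem1 : h ^ m ∈ C := hC _ q v hq hqπ ho1
      have hqv : 0 < q ^ v := pow_pos hq.pos v
      have ho2 : orderOf (h ^ (q ^ v)) = m := by
        rw [orderOf_pow_of_dvd hqv.ne' (by rw [hn, hnm]; exact dvd_mul_right _ _), hn, hnm]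
        exact Nat.mul_div_cancel_left _ hqv
      have hmlt : m < n := by
        rw [hnm]
        have : 1 < q ^ v := Nat.one_lt_pow hv hq.one_lt
        nlinarith
      have hmem2 : h ^ (q ^ v) ∈ C := ih m hmlt _ ho2 (hpi.pow _)
      have hcop2 : Nat.Coprime m (q ^ v) := by
        apply Nat.Coprime.pow_right
        exact (Nat.Coprime.symm ((Nat.Prime.coprime_iff_not_dvd hq).mpr hqm))
      exact Cfsg.Agent.Lib.Helper2.mem_of_pow_mem_of_coprime C h m (q ^ v) hcop2 hmem1 hmem2

/-- If the centre of `W` has `π`-index, the product of two `π`-elements is a `π`-element. -/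
theorem piElt_mul_of_center_index {W : Type*} [Group W] [Finite W] {π : Set ℕ}
    (hn : PiNum π (Subgroup.center W).index) {x y : W} (hx : PiElt π x) (hy : PiElt π y) :
    PiElt π (x * y) := by
  have h1 : (x * y) ^ (Subgroup.center W).index =
      x ^ (Subgroup.center W).index * y ^ (Subgroup.center W).index := by
    have := map_mul (MonoidHom.transferCenterPow W) x y
    have h2 := congrArg Subtype.val this
    rw [Subgroup.coe_mul, MonoidHom.transferCenterPow_apply, MonoidHom.transferCenterPow_apply,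
      MonoidHom.transferCenterPow_apply] at h2
    exact h2
  have hc : Commute (x ^ (Subgroup.center W).index) (y ^ (Subgroup.center W).index) := by
    have : x ^ (Subgroup.center W).index ∈ Subgroup.center W :=
      (Subgroup.center W).pow_index_mem x
    exact (Subgroup.mem_center_iff.1 this _).symm
  apply piElt_of_pow_eq_one ((hn.mul hx.piNum).mul hy.piNum)
  have e1 : (x ^ (Subgroup.center W).index) ^ (orderOf x * orderOf y) = 1 := by
    rw [← pow_mul, mul_comm, pow_mul, pow_mul, pow_orderOf_eq_one, one_pow, one_pow]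
  have e2 : (y ^ (Subgroup.center W).index) ^ (orderOf x * orderOf y) = 1 := by
    rw [← pow_mul, mul_comm, mul_comm (orderOf x), pow_mul, pow_mul, pow_orderOf_eq_one, one_pow,
      one_pow]
  rw [mul_assoc, pow_mul, h1, hc.mul_pow, e1, e2, one_mul]

end Cfsg.Agent.Lib.Helper6
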