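import Mathlib
import Cfsg.Agent.Lib.Helper6.InvolFix
import Cfsg.Agent.Lib.Helper6.PGroups
import Cfsg.Agent.Lib.Helper6.Index
import Cfsg.Agent.Lib.Helper6.Conj

set_option autoImplicit false

namespace Cfsg.Agent.Lib.Helper6

theorem invol_conj_mul {Γ : Type*} [Group Γ] (s t : Γ) (hs : s * s = 1) (ht : t * t = 1) :
    s * (s * t) * s⁻¹ = (s * t)⁻¹ := by
  have hs' : s⁻¹ = s := inv_eq_of_mul_eq_one_right hs
  have ht' : t⁻¹ = t := inv_eq_of_mul_eq_one_right ht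
  rw [mul_inv_rev, hs', ht']
  calc s * (s * t) * s = (s * s) * t * s := by group
    _ = t * s := by rw [hs, one_mul]

theorem invol_conj_pow {Γ : Type*} [Group Γ] (s t : Γ) (hs : s * s = 1) (ht : t * t = 1) (k : ℕ) :
    s * (s * t) ^ k * s⁻¹ = ((s * t) ^ k)⁻¹ := by
  rw [← conj_pow, invol_conj_mul s t hs ht, inv_pow]

/-- Two involutions whose product has `2`-power order lie in a common `2`-subgroup. -/
theorem exists_two_group_of_invol {Γ : Type*} [Group Γ] [Finite Γ] (s t : Γ) (hs : s * s = 1)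
    (ht : t * t = 1) (a : ℕ) (ha : orderOf (s * t) = 2 ^ a) :
    ∃ E : Subgroup Γ, IsPGroup 2 E ∧ s ∈ E ∧ t ∈ E := by
  have h2 : Fact (Nat.Prime 2) := ⟨Nat.prime_two⟩
  refine ⟨Subgroup.zpowers (s * t) ⊔ Subgroup.zpowers s, ?_,
    Subgroup.mem_sup_right (Subgroup.mem_zpowers s), ?_⟩
  · apply IsPGroup.to_sup_of_normal_left'
    · exact IsPGroup.of_card (n := a) (by rw [Nat.card_zpowers, ha])
    · apply IsPGroup.of_card_dvd_pow (n := 1)
      rw [Nat.card_zpowers, pow_one]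
      exact orderOf_dvd_of_pow_eq_one (by rw [sq, hs])
    · rw [Subgroup.zpowers_le]
      apply mem_normalizer_of_invol s hs
      intro k hk
      obtain ⟨i, rfl⟩ := hk
      have e : s * (s * t) ^ i * s⁻¹ = ((s * t)⁻¹) ^ i := by
        rw [← conj_zpow, invol_conj_mul s t hs ht]
      show s * (s * t) ^ i * s⁻¹ ∈ Subgroup.zpowers (s * t)
      rw [e]
      exact Subgroup.zpow_mem _ (Subgroup.inv_mem _ (Subgroup.mem_zpowers _)) i
  · have e : t = s * (s * t) := by rw [← mul_assoc, hs, one_mul]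
    have hmem : s * (s * t) ∈ Subgroup.zpowers (s * t) ⊔ Subgroup.zpowers s :=
      Subgroup.mul_mem _ (Subgroup.mem_sup_right (Subgroup.mem_zpowers s))
        (Subgroup.mem_sup_left (Subgroup.mem_zpowers _))
    rw [← e] at hmem
    exact hmem

/-- A `2`-element outside `D` has a `2`-power power outside `D` whose square is in `D`. -/
theorem exists_sq_mem {G : Type*} [Group G] (D : Subgroup G) (x : G)
    (hx2 : ∃ k : ℕ, orderOf x = 2 ^ k) (hxD : x ∉ D) :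
    ∃ j : ℕ, x ^ (2 ^ j) ∉ D ∧ (x ^ (2 ^ j)) * (x ^ (2 ^ j)) ∈ D := by
  classical
  obtain ⟨k, hk⟩ := hx2
  have hex : ∃ j : ℕ, x ^ (2 ^ j) ∈ D := ⟨k, by rw [← hk, pow_orderOf_eq_one]; exact D.one_mem⟩
  have hj₀spec : x ^ (2 ^ Nat.find hex) ∈ D := Nat.find_spec hex
  have hj₀pos : Nat.find hex ≠ 0 := by
    intro h0
    rw [h0, pow_zero, pow_one] at hj₀spec
    exact hxD hj₀spec
  obtain ⟨j, hj⟩ := Nat.exists_eq_succ_of_ne_zero hj₀pos
  refine ⟨j, ?_, ?_⟩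
  · exact Nat.find_min hex (by omega : j < Nat.find hex)
  · rw [← pow_add, ← two_mul, ← pow_succ']
    rw [hj] at hj₀spec
    exact hj₀spec

/-- If a Sylow `2`-subgroup is not normal, some element of odd prime order is inverted. -/
theorem exists_inverted_of_sylow2_not_normal {G : Type*} [Group G] [Finite G] (P : Sylow 2 G)
    (hnn : ¬ (P : Subgroup G).Normal) :
    ∃ (q : ℕ) (r s : G), q.Prime ∧ q ≠ 2 ∧ orderOf r = q ∧ s * r * s⁻¹ = r⁻¹ := by
  classical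
  have h2 : Fact (Nat.Prime 2) := ⟨Nat.prime_two⟩
  -- another Sylow subgroup
  have hex : ∃ Q : Sylow 2 G, Q ≠ P := by
    by_contra hall
    push Not at hall
    apply hnn
    rw [← Subgroup.normalizer_eq_top_iff, eq_top_iff]
    intro g _
    exact Sylow.smul_eq_iff_mem_normalizer.mp (hall (g • P))
  obtain ⟨Q, hQP⟩ := hex
  -- maximal intersection
  let S : Set (Sylow 2 G × Sylow 2 G) := {pr | pr.1 ≠ pr.2}
  obtain ⟨⟨P₁, P₂⟩, hne, hmax⟩ := Set.exists_max_image S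
    (fun pr => Nat.card ((pr.1 : Subgroup G) ⊓ (pr.2 : Subgroup G) : Subgroup G))
    (Set.toFinite S) ⟨(Q, P), hQP⟩
  have hne' : P₁ ≠ P₂ := hne
  set D := (P₁ : Subgroup G) ⊓ (P₂ : Subgroup G) with hD
  have hmax' : ∀ R₁ R₂ : Sylow 2 G, R₁ ≠ R₂ →
      Nat.card ((R₁ : Subgroup G) ⊓ (R₂ : Subgroup G) : Subgroup G) ≤ Nat.card D :=
    fun R₁ R₂ h => hmax (R₁, R₂) h
  have hD1 : D < (P₁ : Subgroup G) := by
    apply lt_of_le_of_ne inf_le_left
    intro h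
    apply hne'
    apply sylow_eq_of_le
    rw [← h]
    exact inf_le_right
  have hD2 : D < (P₂ : Subgroup G) := by
    apply lt_of_le_of_ne inf_le_right
    intro h
    apply hne'
    symm
    apply sylow_eq_of_le
    rw [← h]
    exact inf_le_left
  have hDpg : IsPGroup 2 D := P₁.isPGroup'.to_le inf_le_left
  -- key: any 2-subgroup containing D properly and meeting P_i outside D forces equality
  have hkey : ∀ (R : Sylow 2 G) (Pi : Sylow 2 G), D ≤ (Pi : Subgroup G) → D ≤ (R : Subgroup G) →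
      (∃ x, x ∈ (R : Subgroup G) ∧ x ∈ (Pi : Subgroup G) ∧ x ∉ D) → R = Pi := by
    intro R Pi hDPi hDR ⟨x, hxR, hxPi, hxD⟩
    by_contra hRPi
    have h1 := hmax' R Pi hRPi
    have h3 : D ≤ (R : Subgroup G) ⊓ (Pi : Subgroup G) := le_inf hDR hDPi
    have h4 := Subgroup.eq_of_le_of_card_ge h3 h1
    apply hxD
    rw [h4]
    exact Subgroup.mem_inf.mpr ⟨hxR, hxPi⟩
  -- elements s, t
  have hpel : ∀ (R : Sylow 2 G), ∀ x ∈ (R : Subgroup G), ∃ k : ℕ, orderOf x = 2 ^ k := by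
    intro R x hx
    obtain ⟨k, hk⟩ := (IsPGroup.iff_orderOf.mp R.isPGroup') ⟨x, hx⟩
    exact ⟨k, by rw [← hk, Subgroup.orderOf_mk]⟩
  obtain ⟨x₁, hx₁P, hx₁N, hx₁D⟩ := exists_mem_normalizer_not_mem (P₁ : Subgroup G) D P₁.isPGroup' hD1
  obtain ⟨x₂, hx₂P, hx₂N, hx₂D⟩ := exists_mem_normalizer_not_mem (P₂ : Subgroup G) D P₂.isPGroup' hD2
  obtain ⟨j₁, hs1, hs2⟩ := exists_sq_mem D x₁ (hpel P₁ x₁ hx₁P) hx₁D
  obtain ⟨j₂, ht1, ht2⟩ := exists_sq_mem D x₂ (hpel P₂ x₂ hx₂P) hx₂D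
  set s := x₁ ^ (2 ^ j₁) with hs
  set t := x₂ ^ (2 ^ j₂) with ht
  have hsP : s ∈ (P₁ : Subgroup G) := Subgroup.pow_mem _ hx₁P _
  have htP : t ∈ (P₂ : Subgroup G) := Subgroup.pow_mem _ hx₂P _
  set N := Subgroup.normalizer (D : Set G) with hN
  have hsN : s ∈ N := Subgroup.pow_mem _ hx₁N _
  have htN : t ∈ N := Subgroup.pow_mem _ hx₂N _
  have hDN : D ≤ N := Subgroup.le_normalizer
  have hD'n : (D.subgroupOf N).Normal := Subgroup.normal_in_normalizer
  set π := QuotientGroup.mk' (D.subgroupOf N) with hπ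
  have hπker : ∀ y : N, π y = 1 ↔ (y : G) ∈ D := by
    intro y
    rw [hπ, QuotientGroup.mk'_apply, QuotientGroup.eq_one_iff, Subgroup.mem_subgroupOf]
  set sb := π ⟨s, hsN⟩ with hsb
  set tb := π ⟨t, htN⟩ with htb
  have hsb2 : sb * sb = 1 := by
    rw [hsb, ← map_mul, hπker]
    exact hs2
  have htb2 : tb * tb = 1 := by
    rw [htb, ← map_mul, hπker]
    exact ht2
  -- the order of sb * tb is not a power of 2
  have hnot2 : ∃ q : ℕ, q.Prime ∧ q ∣ orderOf (sb * tb) ∧ q ≠ 2 := by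
    by_contra hall
    push Not at hall
    have hpow : orderOf (sb * tb) = 2 ^ (orderOf (sb * tb)).primeFactorsList.length :=
      Nat.eq_prime_pow_of_unique_prime_dvd (orderOf_pos _).ne' (fun {d} hd hdn => hall d hd hdn)
    obtain ⟨E, hEpg, hsE, htE⟩ := exists_two_group_of_invol sb tb hsb2 htb2 _ hpow
    have hker : IsPGroup 2 π.ker := by
      rw [hπ, QuotientGroup.ker_mk']
      exact hDpg.comap_subtype
    have hEc : IsPGroup 2 (E.comap π) := hEpg.comap_of_ker_isPGroup π hker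
    have hEG : IsPGroup 2 ((E.comap π).map N.subtype) := hEc.map _
    obtain ⟨R, hR⟩ := hEG.exists_le_sylow
    have hsR : s ∈ (R : Subgroup G) := hR ⟨⟨s, hsN⟩, hsE, rfl⟩
    have htR : t ∈ (R : Subgroup G) := hR ⟨⟨t, htN⟩, htE, rfl⟩
    have hDR : D ≤ (R : Subgroup G) := by
      intro d hd
      apply hR
      refine ⟨⟨d, hDN hd⟩, ?_, rfl⟩
      show π ⟨d, hDN hd⟩ ∈ E
      rw [(hπker ⟨d, hDN hd⟩).mpr hd]
      exact E.one_mem
    have e1 : R = P₁ := hkey R P₁ inf_le_left hDR ⟨s, hsR, hsP, hs1⟩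
    have e2 : R = P₂ := hkey R P₂ inf_le_right hDR ⟨t, htR, htP, ht1⟩
    exact hne' (e1.symm.trans e2)
  obtain ⟨q, hq, hqn, hq2⟩ := hnot2
  have hqf : Fact q.Prime := ⟨hq⟩
  set n := orderOf (sb * tb) with hn
  set rb := (sb * tb) ^ (n / q) with hrb
  have hrbo : orderOf rb = q := orderOf_pow_orderOf_div (orderOf_pos _).ne' hqn
  have hrbinv : sb * rb * sb⁻¹ = rb⁻¹ := invol_conj_pow sb tb hsb2 htb2 _
  -- lift
  obtain ⟨r₀, hr₀⟩ := QuotientGroup.mk'_surjective (D.subgroupOf N) rb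
  obtain ⟨c, hc⟩ := hDpg.exists_card_eq
  set r := ((r₀ : G)) ^ (2 ^ c) with hr
  have hrN : r ∈ N := Subgroup.pow_mem _ r₀.2 _
  have hπr : π ⟨r, hrN⟩ = rb ^ (2 ^ c) := by
    have e : (⟨r, hrN⟩ : N) = r₀ ^ (2 ^ c) := Subtype.ext rfl
    rw [e, map_pow]
    congr 1
  have hrq : r ^ q = 1 := by
    have h1 : ((r₀ : G)) ^ q ∈ D := by
      have h2 : π (r₀ ^ q) = 1 := by
        rw [map_pow]
        have : π r₀ = rb := hr₀
        rw [this, ← hrbo, pow_orderOf_eq_one]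
      exact (hπker (r₀ ^ q)).mp h2
    have h3 : orderOf (((r₀ : G)) ^ q) ∣ 2 ^ c := by
      rw [← hc]
      exact Subgroup.orderOf_dvd_natCard D h1
    rw [hr, ← pow_mul, mul_comm, pow_mul]
    exact orderOf_dvd_iff_pow_eq_one.mp h3
  have hrD : r ∉ D := by
    intro hrD
    have h1 : π ⟨r, hrN⟩ = 1 := (hπker ⟨r, hrN⟩).mpr hrD
    rw [hπr] at h1
    have h2 : q ∣ 2 ^ c := by
      rw [← hrbo]
      exact orderOf_dvd_of_pow_eq_one h1
    have h3 : q ∣ 2 := hq.dvd_of_dvd_pow h2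
    exact hq2 ((Nat.prime_dvd_prime_iff_eq hq Nat.prime_two).mp h3)
  have hr1 : r ≠ 1 := fun h => hrD (h ▸ D.one_mem)
  have hro : orderOf r = q := orderOf_eq_prime hrq hr1
  have hsrD : s * r * s⁻¹ * r ∈ D := by
    have h1 : π (⟨s, hsN⟩ * ⟨r, hrN⟩ * ⟨s, hsN⟩⁻¹ * ⟨r, hrN⟩) = 1 := by
      rw [map_mul, map_mul, map_mul, map_inv, hπr, ← hsb, ← conj_pow, hrbinv, inv_pow,
        inv_mul_cancel]
    exact (hπker _).mp h1
  -- Sylow conjugacy in D ⊔ ⟨r⟩
  set A := Subgroup.zpowers r with hA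
  set B := Subgroup.zpowers (s * r * s⁻¹) with hB
  have hAN : A ≤ N := Subgroup.zpowers_le.mpr hrN
  have hAK : A ≤ D ⊔ A := le_sup_right
  have hBK : B ≤ D ⊔ A := by
    rw [hB, Subgroup.zpowers_le]
    have e : s * r * s⁻¹ = (s * r * s⁻¹ * r) * r⁻¹ := by group
    rw [e]
    exact Subgroup.mul_mem _ (Subgroup.mem_sup_left hsrD)
      (Subgroup.mem_sup_right (Subgroup.inv_mem _ (Subgroup.mem_zpowers r)))
  have hBo : orderOf (s * r * s⁻¹) = q := by
    rw [← hro]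
    exact (MulAut.conj s).orderOf_eq r
  have hApg : IsPGroup q A := IsPGroup.of_card (n := 1) (by rw [Nat.card_zpowers, hro, pow_one])
  have hBpg : IsPGroup q B := IsPGroup.of_card (n := 1) (by rw [Nat.card_zpowers, hBo, pow_one])
  have hidx : ¬ q ∣ A.relIndex (D ⊔ A) := by
    intro hd
    have h1 := hd.trans (relIndex_sup_dvd_card D A hAN)
    rw [hc] at h1
    have h3 : q ∣ 2 := hq.dvd_of_dvd_pow h1
    exact hq2 ((Nat.prime_dvd_prime_iff_eq hq Nat.prime_two).mp h3)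
  obtain ⟨h, hh, hconj⟩ := exists_conj_of_sylow_in_subgroup (p := q) (D ⊔ A) A B hAK hBK hApg hBpg
    hidx (by rw [Nat.card_zpowers, Nat.card_zpowers, hBo, hro])
  have hh' : h ∈ ((D ⊔ A : Subgroup G) : Set G) := hh
  rw [Subgroup.coe_mul_of_right_le_normalizer_left D A hAN] at hh'
  obtain ⟨d, hd, a, ha, rfl⟩ := Set.mem_mul.mp hh'
  have h3 : (d * a)⁻¹ * (s * r * s⁻¹) * (d * a) ∈ A := by
    rw [← mem_map_conj, ← hconj]
    exact Subgroup.mem_zpowers _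
  have h4 : d⁻¹ * (s * r * s⁻¹) * d ∈ A := by
    have e : d⁻¹ * (s * r * s⁻¹) * d = a * ((d * a)⁻¹ * (s * r * s⁻¹) * (d * a)) * a⁻¹ := by group
    rw [e]
    exact Subgroup.mul_mem _ (Subgroup.mul_mem _ ha h3) (Subgroup.inv_mem _ ha)
  -- the new element s' = d⁻¹ * s inverts r
  refine ⟨q, r, d⁻¹ * s, hq, hq2, hro, ?_⟩
  have e1 : d⁻¹ * s * r * (d⁻¹ * s)⁻¹ = d⁻¹ * (s * r * s⁻¹) * d := by group
  rw [e1]
  have h5 : d⁻¹ * (s * r * s⁻¹) * d * r ∈ D := by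
    have e : d⁻¹ * (s * r * s⁻¹) * d * r = d⁻¹ * (s * r * s⁻¹ * r) * (r⁻¹ * d * r) := by group
    rw [e]
    have h6 : r⁻¹ * d * r ∈ D := by
      have := (Subgroup.mem_normalizer_iff.mp (Subgroup.inv_mem _ hrN) d).mp hd
      simpa using this
    exact Subgroup.mul_mem _ (Subgroup.mul_mem _ (Subgroup.inv_mem _ hd) hsrD) h6
  have h7 : d⁻¹ * (s * r * s⁻¹) * d * r ∈ A := Subgroup.mul_mem _ h4 (Subgroup.mem_zpowers r)
  have hdisj : Disjoint D A := by
    have hne2 : (2 : ℕ) ≠ q := fun h => hq2 h.symm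
    exact IsPGroup.disjoint_of_ne 2 q hne2 _ _ hDpg hApg
  have h8 : d⁻¹ * (s * r * s⁻¹) * d * r = 1 := by
    have : d⁻¹ * (s * r * s⁻¹) * d * r ∈ D ⊓ A := Subgroup.mem_inf.mpr ⟨h5, h7⟩
    rw [hdisj.eq_bot, Subgroup.mem_bot] at this
    exact this
  exact eq_inv_of_mul_eq_one_left h8

/-- An element inverting `r` normalizes `⟨r⟩`. -/
theorem mem_normalizer_zpowers_of_inv {G : Type*} [Group G] (s r : G) (h : s * r * s⁻¹ = r⁻¹) :
    s ∈ Subgroup.normalizer ((Subgroup.zpowers r : Subgroup G) : Set G) := by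
  have e1 : s⁻¹ * r⁻¹ * s = r := by
    rw [← h]
    group
  have h' : s⁻¹ * r * s = r⁻¹ := by
    have e : s⁻¹ * r * s = (s⁻¹ * r⁻¹ * s)⁻¹ := by group
    rw [e, e1]
  rw [Subgroup.mem_normalizer_iff]
  intro k
  constructor
  · rintro ⟨i, rfl⟩
    show s * r ^ i * s⁻¹ ∈ Subgroup.zpowers r
    rw [← conj_zpow, h]
    exact Subgroup.zpow_mem _ (Subgroup.inv_mem _ (Subgroup.mem_zpowers r)) i
  · rintro ⟨i, hi⟩
    have hi' : r ^ i = s * k * s⁻¹ := hi
    have e : k = s⁻¹ * (s * k * s⁻¹) * s := by group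
    rw [e, ← hi']
    have e2 : s⁻¹ * r ^ i * s = (s⁻¹ * r * s) ^ i := by
      have := conj_zpow (i := i) (a := s⁻¹) (b := r)
      rw [inv_inv] at this
      exact this.symm
    rw [e2, h']
    exact Subgroup.zpow_mem _ (Subgroup.inv_mem _ (Subgroup.mem_zpowers r)) i

/-- An element of odd prime order is not its own inverse. -/
theorem ne_inv_of_orderOf_odd_prime {G : Type*} [Group G] (r : G) (q : ℕ) (hq : q.Prime)
    (hq2 : q ≠ 2) (hro : orderOf r = q) : r ≠ r⁻¹ := by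
  intro h
  have h1 : r ^ 2 = 1 := by
    rw [sq]
    nth_rewrite 2 [h]
    exact mul_inv_cancel r
  have h2 : q ∣ 2 := by
    rw [← hro]
    exact orderOf_dvd_of_pow_eq_one h1
  exact hq2 ((Nat.prime_dvd_prime_iff_eq hq Nat.prime_two).mp h2)

end Cfsg.Agent.Lib.Helper6
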